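/-
A presentation of a central extension of U6(2) on eight generators.
-/
import Cfsg.Agent.Lib.CosetEnum.Cox

set_option autoImplicit false

namespace CfsgLib.CosetEnum

open Cfsg.Spor

namespace U62Mult

/-- The relator of the second hexagon. -/
def tW : List ℕ := (List.replicate 3 [7, 3, 2, 1, 5, 6, 5, 1, 2, 3]).flatten

/-- The central word. -/
def cW : List ℕ := (List.replicate 5 [1, 2, 3, 7, 6, 5]).flatten

/-- The relators saying that the central word commutes with the generators. -/
def cenW : List (List ℕ) := (List.range 8).map fun i => cW ++ [i] ++ cW.reverse ++ [i]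

/-- The further relators as words. -/
def extraU62 : List (List ℕ) := tW :: cenW

end U62Mult

/-- The presentation. -/
abbrev presU62 : Pres where
  α := Fin 8
  dec := inferInstance
  edges := [(0, 3, 1), (1, 3, 2), (2, 3, 3), (3, 3, 4), (1, 3, 5), (5, 3, 6), (3, 3, 7), (6, 3, 7)]
  extra := U62Mult.extraU62.map fun w => (w.map fun i => FreeGroup.of (Fin.ofNat 8 i)).prod
  k := 8
  gen := fun i => Fin.ofNat 8 i
  idx := fun a => a.val
  extraW := U62Mult.extraU62
  idx_spec a := ⟨a.isLt, Fin.ext (Nat.mod_eq_of_lt a.isLt)⟩
  node a := by revert a; decide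
  symm a b := by revert a b; decide
  extra_spec M _ τ _ := by
    have hlt : ∀ w ∈ U62Mult.extraU62, ∀ x ∈ w, x < 8 := by decide +kernel
    rw [List.map_map]
    refine List.map_congr_left fun w hw => ?_
    rw [Function.comp_apply, map_list_prod, List.map_map]
    refine congrArg List.prod (List.map_congr_left fun x hx => ?_)
    rw [Function.comp_apply, FreeGroup.lift_apply_of, Function.comp_apply]
    exact congrArg τ (Nat.mod_eq_of_lt (hlt w hw x hx))

end CfsgLib.CosetEnum
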