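/-
Words for the multiplier of U6(2).
-/
import Cfsg.Agent.Lib.CosetEnum.U62Mult.Pres

set_option autoImplicit false
set_option maxRecDepth 1000000

namespace CfsgLib.CosetEnum.U62Mult

/-- The words over the generators of Fi22 of the eight generators. -/
def gensX : List (List ℕ) := [[2], [3], [4], [5], [6], [7], [8], [1, 2, 3, 7, 4, 3, 2, 1, 0, 1, 2, 3, 4, 7, 3, 2, 1]]

/-- Pairs of commuting generators with conjugators of the standard pair. -/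
def nonedges : List (ℕ × ℕ × List ℕ) := [(0, 2, [3, 4, 2, 3]), (0, 3, [4, 3]), (0, 4, []), (0, 5, [6, 7, 5, 6, 3, 7, 4, 3]), (0, 6, [7, 6, 3, 7, 4, 3]), (0, 7, [3, 7, 4, 3]), (1, 3, [4, 3, 0, 1]), (1, 4, [0, 1]), (1, 6, [7, 6, 3, 7, 4, 3, 0, 1]), (1, 7, [3, 7, 4, 3, 0, 1]), (2, 4, [1, 2, 0, 1]), (2, 5, [3, 2, 1, 5, 2, 3, 4, 1, 2, 3, 0, 1]), (2, 6, [7, 6, 1, 2, 3, 7, 4, 3, 0, 1]), (2, 7, [1, 2, 3, 7, 4, 3, 0, 1]), (3, 5, [1, 5, 2, 3, 4, 1, 2, 3, 0, 1]), (3, 6, [5, 6, 1, 5, 2, 3, 4, 1, 2, 3, 0, 1]), (4, 5, [1, 5, 2, 3, 4, 1, 2, 3, 1, 2, 0, 1]), (4, 6, [5, 6, 1, 5, 2, 3, 4, 1, 2, 3, 1, 2, 0, 1]), (4, 7, [3, 7, 6, 4, 3, 7, 5, 6, 1, 5, 0, 1]), (5, 7, [3, 7, 1, 5, 4, 3, 0, 1])]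

/-- Conjugators of five transvections with product one. -/
def fiveH : List (List ℕ) := [[], [1, 5, 2, 1], [3, 2, 1, 5, 4, 3, 2, 1], [6, 7, 5, 6, 3, 7, 1, 5, 4, 3, 2, 1], [3, 7, 6, 2, 3, 7, 5, 6, 3, 2, 1, 5, 4, 3, 2, 1]]

/-- Conjugators for the pairs of the fourth generator with the five. -/
def fiveP : List (List ℕ) := [[1, 2, 3, 4, 0, 1, 2, 3, 1, 2, 0, 1], [1, 5, 3, 4, 0, 1, 2, 3, 1, 2, 0, 1], [3, 7, 6, 4, 3, 7, 5, 6, 1, 5, 3, 4, 0, 1, 2, 3], [3, 7, 6, 4, 3, 7, 5, 6, 3, 2, 1, 5, 0, 1, 2, 3], [6, 5, 3, 4, 2, 3, 1, 2, 0, 1, 5, 6, 3, 7, 2, 3]]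

/-- Conjugators for the pairs among the five. -/
def fiveQ : List (ℕ × ℕ × List ℕ) := [(0, 1, [3, 1, 2, 0, 1, 5, 4, 1, 2, 3, 0, 1]), (0, 2, [3, 1, 2, 0, 1, 5, 0, 1, 2, 3, 0, 1]), (0, 3, [6, 7, 5, 6, 3, 7, 1, 2, 0, 1, 5, 1, 2, 3, 0, 1]), (0, 4, [6, 7, 1, 2, 0, 1, 5, 6, 1, 2, 3, 7, 0, 1, 2, 3]), (1, 2, [3, 1, 2, 0, 1, 5, 0, 1, 2, 3, 2, 1]), (1, 3, [6, 7, 5, 6, 3, 7, 1, 2, 0, 1, 5, 1, 2, 3, 2, 1]), (1, 4, [6, 3, 7, 5, 2, 3, 1, 2, 0, 1, 5, 6, 7, 1, 2, 3, 2, 1]), (2, 3, [6, 3, 7, 5, 4, 3, 1, 2, 0, 1, 5, 6, 7, 1, 2, 3, 2, 1]), (2, 4, [6, 3, 7, 4, 2, 3, 1, 2, 0, 1, 5, 6, 7, 5, 0, 1, 2, 3, 2, 1]), (3, 4, [6, 7, 3, 4, 2, 3, 7, 6, 3, 1, 2, 0, 1, 5, 0, 1, 2, 3, 2, 1])]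

/-- A word centralising the sixth generator. -/
def stabW0 : List ℕ := [5, 6, 1, 5, 2, 1, 3, 2, 7, 3, 6, 7]

/-- The word as a product of transvections commuting with the sixth generator. -/
def stabD0 : List (List ℕ × Bool × List ℕ) := [([1, 2, 3, 7, 6, 5, 0, 1], false, [2, 1, 5, 6, 7, 2, 1, 5, 4, 3, 0, 1]), ([2, 3, 7, 6, 5, 2, 0, 1], false, [3, 2, 1, 5, 6, 7, 1, 5, 4, 3, 0, 1])]

/-- A word centralising the sixth generator. -/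
def stabW1 : List ℕ := [5, 1, 2, 3, 7, 3, 2, 1, 5, 6, 5, 1, 2, 3, 6, 7]

/-- The word as a product of transvections commuting with the sixth generator. -/
def stabD1 : List (List ℕ × Bool × List ℕ) := [([5, 6, 1, 5, 0, 1], true, []), ([3, 2, 0, 1], false, [1, 5, 6, 2, 1, 5, 4, 3, 0, 1]), ([3, 7, 6, 5, 0, 1], false, [1, 5, 6, 7, 1, 5, 4, 3, 0, 1]), ([1, 2, 3, 7, 6, 5, 0, 1], false, [2, 1, 5, 6, 7, 2, 1, 5, 4, 3, 0, 1])]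

/-- Six transpositions with product one. -/
def sixH : List (List ℕ) := [[], [1, 5, 2, 1], [1, 2, 0, 1], [1, 2, 3, 7, 4, 3, 2, 1], [6, 3, 4, 2, 3, 7, 5, 6, 3, 2, 1, 5, 4, 3, 2, 1], [6, 7, 1, 2, 0, 1, 5, 6, 3, 2, 1, 5, 4, 3, 2, 1]]

/-- Sixty transpositions with product one. -/
def sixtyH : List (List ℕ) := (List.replicate 10 [[0, 1], [1, 2, 0, 1], [2, 3, 1, 2, 0, 1], [3, 7, 2, 3, 1, 2, 0, 1], [5, 6, 1, 5, 0, 1], [1, 5, 0, 1]]).flatten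

/-- The last generator of the point stabiliser. -/
def topW : List ℕ := [3, 7, 2, 1, 5, 3, 2, 1, 0, 1, 2, 3, 5, 1, 2, 7, 3]

end CfsgLib.CosetEnum.U62Mult
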