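/-
Checks of the words for the multiplier of U6(2).
-/
import Cfsg.Agent.Lib.CosetEnum.U62Mult.Data
import Cfsg.Agent.Lib.CosetEnum.Fi22Pair.Check
import Cfsg.Agent.Lib.CosetEnum.Fi22Mult.Mat
import Cfsg.Agent.Lib.CosetEnum.Fi23Class.Data
import Cfsg.Agent.Lib.CosetEnum.Fi31671.Data

set_option autoImplicit false
set_option maxRecDepth 1000000

namespace CfsgLib.CosetEnum.U62Mult

open Fi22Pair (eqW ltW)

/-- The word over the generators of Fi22 of a letter. -/
def ex (x : ℕ) : List ℕ := gensX.getD x []

/-- The word over the generators of Fi22 of a word. -/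
def expW (w : List ℕ) : List ℕ := w.flatMap ex

/-- The conjugate of the first generator. -/
def cjU (h : List ℕ) : List ℕ := h ++ [0] ++ h.reverse

/-- The diagram. -/
def joinedU (i j : ℕ) : Bool :=
  [(0, 1), (1, 2), (2, 3), (3, 4), (1, 5), (5, 6), (3, 7), (6, 7)].any fun e =>
    (Nat.beq e.1 i && Nat.beq e.2 j) || (Nat.beq e.1 j && Nat.beq e.2 i)

/-- The word is trivial modulo the centre. -/
noncomputable def okRel (w : List ℕ) : Bool := eqW (expW w) [] || eqW (expW w) [0]

/-- A conjugator takes the standard pair to two given elements. -/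
noncomputable def okPair (a b g : List ℕ) : Bool :=
  eqW (expW (g ++ [0] ++ g.reverse)) (expW a) && eqW (expW (g ++ [4] ++ g.reverse)) (expW b)

theorem ex_lt : ∀ x < 8, ltW (ex x) = true := by decide +kernel

theorem ex_palin : ∀ x < 8, (ex x).reverse = ex x := by decide +kernel

theorem ex_central : ∀ x < 8, eqW (ex x ++ [0]) ([0] ++ ex x) = true := by decide +kernel

theorem ex_square : ∀ x < 8, eqW (ex x ++ ex x) [] = true := by decide +kernel

theorem ex_braid : ∀ i < 8, ∀ j < 8, joinedU i j = true →
    eqW (expW [i, j, i]) (expW [j, i, j]) = true := by decide +kernel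

theorem nonedges_cover : ∀ i < 8, ∀ j < 8, joinedU i j = false →
    i = j ∨ (nonedges.any fun e => (Nat.beq e.1 i && Nat.beq e.2.1 j) || (Nat.beq e.1 j && Nat.beq e.2.1 i)) = true := by
  decide +kernel

theorem nonedges_ok : (nonedges.all fun e => okPair [e.1] [e.2.1] e.2.2) = true := by decide +kernel

theorem five_len : fiveH.length = 5 ∧ fiveP.length = 5 := by decide +kernel

theorem five_prod : okRel (fiveH.flatMap cjU) = true := by decide +kernel

theorem fiveP_ok : ((List.range 5).all fun k => okPair [4] (cjU (fiveH.getD k [])) (fiveP.getD k [])) = true := by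
  decide +kernel

theorem fiveQ_cover : ∀ i < 5, ∀ j < 5, i < j → (fiveQ.any fun e => Nat.beq e.1 i && Nat.beq e.2.1 j) = true := by
  decide +kernel

theorem fiveQ_ok : (fiveQ.all fun e => okPair (cjU (fiveH.getD e.1 [])) (cjU (fiveH.getD e.2.1 [])) e.2.2) = true := by
  decide +kernel

/-- The items centralise the sixth generator and multiply to the word. -/
noncomputable def okStab (W : List ℕ) (D : List (List ℕ × Bool × List ℕ)) : Bool :=
  (D.all fun e => if e.2.1 then eqW (expW (cjU e.1)) (expW [6]) else okPair [6] (cjU e.1) e.2.2) &&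
    okRel (D.flatMap (fun e => cjU e.1) ++ W.reverse)

theorem stab0_ok : okStab stabW0 stabD0 = true := by decide +kernel

theorem stab1_ok : okStab stabW1 stabD1 = true := by decide +kernel

theorem cW_ok : okRel cW = true := by decide +kernel

theorem top_ok : eqW [0, 1, 2, 3, 4, 7, 0, 1, 2, 3, 4, 7, 0, 1, 2, 3, 4, 7, 0, 1, 2, 3, 4, 7, 0, 1, 2, 3, 4, 7]
    (expW topW) = true := by decide +kernel

theorem words_lt : ltW (expW (fiveH.flatMap cjU)) = true ∧ ltW (expW topW) = true ∧
    (∀ x ∈ topW, x < 8) ∧ ltW (expW (sixH.flatMap cjU)) = true ∧ ltW (expW (sixtyH.flatMap cjU)) = true := by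
  decide +kernel

theorem six_one : eqW (expW (sixH.flatMap cjU)) [] = true ∧ eqW (expW (sixtyH.flatMap cjU)) [] = true := by
  decide +kernel

theorem six_len : Nat.beq (sixH.length % 2) 0 && Nat.beq (sixtyH.length % 2) 0 &&
    Nat.beq ((expW (sixH.flatMap cjU)).length % 2) 0 = true := by decide +kernel

end CfsgLib.CosetEnum.U62Mult
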