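/-
The eight generators in the point stabiliser of Fi22 and the equations between their images.
-/
import Cfsg.Agent.Lib.CosetEnum.U62Mult.Checks
import Cfsg.Agent.Lib.CosetEnum.Fi22Pair.Main
import Cfsg.Agent.Lib.CosetEnum.Fi22Class.U62

set_option autoImplicit false
set_option maxRecDepth 1000000

namespace CfsgLib.CosetEnum.U62Mult

open Fi22Pair (eqW ltW pr)

/-- The point stabiliser. -/
noncomputable abbrev stabH : Subgroup presFi22.Grp := Fi3510.cert.sub

theorem ta_eq : Fi22Class.ta = presFi22.σ 0 := by simp [Fi22Class.ta]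

theorem mem_stabH {g : presFi22.Grp} : g ∈ stabH ↔ g * presFi22.σ 0 = presFi22.σ 0 * g := by
  show g ∈ Fi3510.cert.sub ↔ _
  rw [← Fi22Class.facts.1, Subgroup.mem_centralizer_singleton_iff, ta_eq]

theorem lt_ex (x : ℕ) : ltW (ex x) = true := by
  by_cases hx : x < 8
  · exact ex_lt x hx
  · rw [ex, List.getD_eq_default _ _ (by show 8 ≤ x; omega)]; rfl

theorem lt_expW (w : List ℕ) : ltW (expW w) = true := by
  induction w with
  | nil => rfl
  | cons x w ih =>
    show ltW (ex x ++ expW w) = true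
    exact Fi22Pair.ltW_append (lt_ex x) ih

theorem ex_mem (x : ℕ) : pr (ex x) ∈ stabH := by
  by_cases hx : x < 8
  · rw [mem_stabH, ← Fi22Pair.pr_one, ← Fi22Pair.pr_append, ← Fi22Pair.pr_append]
    exact Fi22Pair.sound (Fi22Pair.ltW_append (lt_ex x) Fi22Pair.lt0) (Fi22Pair.ltW_append Fi22Pair.lt0 (lt_ex x))
      (ex_central x hx)
  · rw [ex, List.getD_eq_default _ _ (by show 8 ≤ x; omega), Fi22Pair.pr_nil]
    exact one_mem _

/-- The generators. -/
noncomputable def genU (x : ℕ) : ↥stabH := ⟨pr (ex x), ex_mem x⟩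

theorem genU_sq (x : ℕ) : genU x * genU x = 1 := by
  refine Subtype.ext ?_
  show pr (ex x) * pr (ex x) = 1
  by_cases hx : x < 8
  · rw [← Fi22Pair.pr_append, ← Fi22Pair.pr_nil]
    exact Fi22Pair.sound (Fi22Pair.ltW_append (lt_ex x) (lt_ex x)) rfl (ex_square x hx)
  · rw [ex, List.getD_eq_default _ _ (by show 8 ≤ x; omega), Fi22Pair.pr_nil, one_mul]

theorem genU_val (w : List ℕ) : (((w.map genU).prod : ↥stabH) : presFi22.Grp) = pr (expW w) := by
  induction w with
  | nil => rfl
  | cons x w ih =>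
    rw [List.map_cons, List.prod_cons, Subgroup.coe_mul, ih]
    show pr (ex x) * pr (expW w) = pr (ex x ++ expW w)
    rw [Fi22Pair.pr_append]

theorem genU_eq {u v : List ℕ} (h : eqW (expW u) (expW v) = true) : (u.map genU).prod = (v.map genU).prod :=
  Subtype.ext (by rw [genU_val, genU_val]; exact Fi22Pair.sound (lt_expW u) (lt_expW v) h)

/-- The first transposition in the stabiliser. -/
noncomputable def aT : ↥stabH := ⟨presFi22.σ 0, mem_stabH.mpr rfl⟩

theorem aT_central (h : ↥stabH) : Commute h aT := Subtype.ext (mem_stabH.mp h.2)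

theorem aT_sq : aT * aT = 1 := Subtype.ext (presFi22.σ_sq 0)

theorem aT_ne : aT ≠ 1 := by
  intro e
  have e' : presFi22.σ 0 = 1 := congrArg Subtype.val e
  have h := Fi22Class.facts.2.1.1.1 _ (mem_conjugatesOf_self (a := Fi22Class.ta))
  rw [ta_eq, e', orderOf_one] at h
  omega

theorem genU_rel {w : List ℕ} (h : okRel w = true) : (w.map genU).prod = 1 ∨ (w.map genU).prod = aT := by
  rw [okRel, Bool.or_eq_true] at h
  refine h.imp (fun h => ?_) fun h => ?_ <;> refine Subtype.ext ?_ <;> rw [genU_val]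
  · rw [Fi22Pair.sound (lt_expW w) rfl h, Fi22Pair.pr_nil]; rfl
  · rw [Fi22Pair.sound (lt_expW w) Fi22Pair.lt0 h, Fi22Pair.pr_one]; rfl

theorem genU_top : Subgroup.closure (insert aT (genU '' Set.Iio 8)) = ⊤ := by
  refine Subgroup.map_injective (Subgroup.subtype_injective stabH) ?_
  rw [MonoidHom.map_closure, ← MonoidHom.range_eq_map, Subgroup.range_subtype]
  refine le_antisymm ((Subgroup.closure_le _).mpr ?_) ?_
  · rintro _ ⟨z, -, rfl⟩; exact z.2
  show Subgroup.closure {g | ∃ w ∈ Fi3510.hw, (w.map presFi22.σ).prod = g} ≤ _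
  rw [Subgroup.closure_le]
  rintro _ ⟨w, hw, rfl⟩
  have one : ∀ x < 8, pr (ex x) ∈ Subgroup.closure (stabH.subtype '' insert aT (genU '' Set.Iio 8)) := fun x hx =>
    Subgroup.subset_closure ⟨genU x, Set.mem_insert_of_mem _ ⟨x, hx, rfl⟩, rfl⟩
  simp only [Fi3510.hw, List.mem_cons, List.not_mem_nil, or_false] at hw
  rcases hw with rfl | rfl | rfl | rfl | rfl | rfl | rfl | rfl | rfl
  · exact Subgroup.subset_closure ⟨aT, Set.mem_insert _ _, by simp [aT]⟩
  · exact one 0 (by norm_num)
  · exact one 1 (by norm_num)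
  · exact one 2 (by norm_num)
  · exact one 3 (by norm_num)
  · exact one 4 (by norm_num)
  · exact one 5 (by norm_num)
  · exact one 6 (by norm_num)
  · show pr _ ∈ _
    rw [Fi22Pair.sound (by decide +kernel) words_lt.2.1 top_ok, ← genU_val]
    have : ∀ w : List ℕ, (∀ x ∈ w, x < 8) → (((w.map genU).prod : ↥stabH) : presFi22.Grp) ∈
        Subgroup.closure (stabH.subtype '' insert aT (genU '' Set.Iio 8)) := by
      intro w
      induction w with
      | nil => intro _; exact one_mem _
      | cons x w ih =>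
        intro hw
        rw [List.map_cons, List.prod_cons, Subgroup.coe_mul]
        exact mul_mem (one x (hw x List.mem_cons_self)) (ih fun y hy => hw y (List.mem_cons_of_mem _ hy))
    exact this topW words_lt.2.2.1

end CfsgLib.CosetEnum.U62Mult
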