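/-
Every central extension of U6(2) has lifts of the eight generators satisfying the presentation.
-/
import Cfsg.Agent.Lib.CosetEnum.U62Mult.Base

set_option autoImplicit false
set_option maxRecDepth 1000000

open scoped commutatorElement

namespace CfsgLib.CosetEnum.U62Mult

open Fi22Pair (eqW ltW pr)

section

variable {G : Type*} [Group G] (p : ↥stabH →* G)

/-- The images of the generators. -/
noncomputable def qU (x : ℕ) : G := p (genU x)

theorem qU_prod (w : List ℕ) : (w.map (qU p)).prod = p (w.map genU).prod := by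
  rw [map_list_prod, List.map_map]; rfl

theorem qU_rev (w : List ℕ) : (w.reverse.map (qU p)).prod = ((w.map (qU p)).prod)⁻¹ :=
  prod_reverse_inv (qU p) (fun x => by rw [qU, ← map_mul, genU_sq, map_one]) w

theorem qU_cjU (h : List ℕ) (x : ℕ) :
    ((h ++ [x] ++ h.reverse).map (qU p)).prod = (h.map (qU p)).prod * qU p x * ((h.map (qU p)).prod)⁻¹ := by
  rw [List.map_append, List.map_append, List.prod_append, List.prod_append, qU_rev, List.map_singleton,
    List.prod_singleton]

theorem qU_eq {u v : List ℕ} (h : eqW (expW u) (expW v) = true) : (u.map (qU p)).prod = (v.map (qU p)).prod := by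
  rw [qU_prod, qU_prod, genU_eq h]

variable (hp : p aT = 1)
include hp

theorem qU_rel {w : List ℕ} (h : okRel w = true) : (w.map (qU p)).prod = 1 := by
  rw [qU_prod]
  rcases genU_rel h with e | e <;> rw [e]
  exacts [map_one p, hp]

variable {E : Type*} [Group E] {π : E →* G} (hker : π.ker ≤ Subgroup.center E)
include hker

omit hp in
theorem cen_of_one {k : E} (hk : π k = 1) (e : E) : Commute k e :=
  (Subgroup.mem_center_iff.mp (hker hk) e).symm

omit hp in
theorem factor {a A : E} (h : π a = π A) : ∃ k : E, (∀ e, Commute k e) ∧ a = k * A :=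
  ⟨a * A⁻¹, cen_of_one hker (by rw [map_mul, map_inv, h, mul_inv_cancel]), by rw [inv_mul_cancel_right]⟩

/-- The lifts of a word. -/
def valE (y : ℕ → E) (w : List ℕ) : E := (w.map y).prod

omit hp hker in
theorem π_val {y : ℕ → E} (hy : ∀ x, π (y x) = qU p x) (w : List ℕ) : π (valE y w) = (w.map (qU p)).prod := by
  rw [valE, map_list_prod, List.map_map]
  exact congrArg List.prod (List.map_congr_left fun x _ => hy x)

omit hp in
/-- Commuting lifts of a pair conjugate to the standard one differ by the same central element. -/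
theorem pair_comm {y : ℕ → E} (hy : ∀ x, π (y x) = qU p x) {ε : E} (hε : ∀ e, Commute ε e)
    (h04 : y 0 * y 4 = ε * (y 4 * y 0)) {wa wb g : List ℕ} (h : okPair wa wb g = true) {a b : E}
    (ha : π a = (wa.map (qU p)).prod) (hb : π b = (wb.map (qU p)).prod) : a * b = ε * (b * a) := by
  rw [okPair, Bool.and_eq_true] at h
  set W := valE y g
  have hW : ∀ x, π (W * y x * W⁻¹) = ((g ++ [x] ++ g.reverse).map (qU p)).prod := fun x => by
    rw [map_mul, map_mul, map_inv, π_val p hy, hy, qU_cjU]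
  obtain ⟨k, hk, rfl⟩ := factor hker (a := a) (A := W * y 0 * W⁻¹) (by rw [ha, hW, qU_eq p h.1])
  obtain ⟨l, hl, rfl⟩ := factor hker (a := b) (A := W * y 4 * W⁻¹) (by rw [hb, hW, qU_eq p h.2])
  have hkl : ∀ A B : E, k * A * (l * B) = k * l * (A * B) := fun A B => by
    rw [mul_assoc k A, ← mul_assoc A, ← (hl A).eq]; simp only [mul_assoc]
  have hlk : ∀ A B : E, l * B * (k * A) = k * l * (B * A) := fun A B => by
    rw [mul_assoc l B, ← mul_assoc B, ← (hk B).eq, mul_assoc k B, ← mul_assoc l k, ← (hk l).eq]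
  rw [hkl, hlk, ← mul_assoc ε, (hε (k * l)).eq, mul_assoc (k * l) ε]
  congr 1
  calc W * y 0 * W⁻¹ * (W * y 4 * W⁻¹) = W * (y 0 * y 4) * W⁻¹ := by group
    _ = W * ε * (y 4 * y 0) * W⁻¹ := by rw [h04, mul_assoc W ε]
    _ = ε * (W * (y 4 * y 0) * W⁻¹) := by rw [← (hε W).eq]; group
    _ = ε * (W * y 4 * W⁻¹ * (W * y 0 * W⁻¹)) := by group

/-- A word centralising the sixth generator lifts to an element centralising its lift. -/
theorem stab_comm {y z : ℕ → E} (hy : ∀ x, π (y x) = qU p x) (h04 : y 0 * y 4 = 1 * (y 4 * y 0))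
    (hz : ∀ x, π (z x) = qU p x) {W : List ℕ} {D : List (List ℕ × Bool × List ℕ)} (h : okStab W D = true) :
    Commute (valE z W) (z 6) := by
  rw [okStab, Bool.and_eq_true] at h
  obtain ⟨hD, hrel⟩ := h
  have hitem : ∀ e ∈ D, Commute (valE z (cjU e.1)) (z 6) := by
    intro e he
    have h := List.all_eq_true.mp hD e he
    by_cases hs : e.2.1 = true
    · rw [if_pos hs] at h
      obtain ⟨k, hk, e'⟩ := factor hker (a := valE z (cjU e.1)) (A := z 6) (by
        rw [π_val p hz, qU_eq p h, hz, List.map_singleton, List.prod_singleton])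
      rw [e']
      exact (hk _).mul_left (Commute.refl _)
    · rw [if_neg hs] at h
      have := pair_comm p hker hy Commute.one_left h04 h (a := z 6) (b := valE z (cjU e.1))
        (by rw [hz, List.map_singleton, List.prod_singleton]) (π_val p hz _)
      rw [one_mul] at this
      exact this.symm
  have hall : ∀ l : List (List ℕ × Bool × List ℕ), (∀ e ∈ l, e ∈ D) →
      Commute (valE z (l.flatMap fun e => cjU e.1)) (z 6) := by
    intro l
    induction l with
    | nil => intro _; exact Commute.one_left _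
    | cons e l ih =>
      intro hl
      rw [List.flatMap_cons, valE, List.map_append, List.prod_append]
      exact (hitem e (hl e List.mem_cons_self)).mul_left (ih fun f hf => hl f (List.mem_cons_of_mem _ hf))
  obtain ⟨k, hk, e'⟩ := factor hker (a := valE z W) (A := valE z (D.flatMap fun e => cjU e.1)) (by
    have := qU_rel p hp hrel
    rw [List.map_append, List.prod_append, qU_rev, mul_inv_eq_one] at this
    rw [π_val p hz, π_val p hz, this])
  rw [e']
  exact (hk _).mul_left (hall D fun e he => he)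

omit hp in
/-- The step along an edge of the tree. -/
theorem edge_step {a b u : E} {i j : ℕ} (hi : i < 8) (hj : j < 8) (hij : joinedU i j = true)
    (ha : π a = qU p i) (hu : π u = qU p j) (hc : ∀ e, Commute (a * a) e) (hb : b = a * u * a * (a * u)⁻¹) :
    π b = qU p j ∧ b * b = a * a ∧ a * b * a = b * a * b := by
  have hbr := qU_eq p (ex_braid i hi j hj hij)
  simp only [List.map_cons, List.map_nil, List.prod_cons, List.prod_nil, mul_one] at hbr
  have hπb : π b = qU p j := by
    rw [hb, map_mul, map_inv, map_mul, map_mul, ha, hu, mul_assoc (qU p i), hbr]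
    group
  refine ⟨hπb, ?_, ?_⟩
  · calc b * b = a * u * (a * a) * (a * u)⁻¹ := by rw [hb]; group
      _ = a * a := by rw [← (hc (a * u)).eq, mul_inv_cancel_right]
  · obtain ⟨k, hk, e1⟩ := factor hker (hu.trans hπb.symm : π u = π b)
    have e2 : a * b * a * (a * b)⁻¹ = b := by
      conv_rhs => rw [hb, e1]
      rw [show a * (k * b) * a * (a * (k * b))⁻¹ = a * k * (b * a * b⁻¹) * k⁻¹ * a⁻¹ by group,
        mul_assoc a k, (hk (b * a * b⁻¹)).eq]
      group
    calc a * b * a = a * b * a * (a * b)⁻¹ * (a * b) := by rw [inv_mul_cancel_right]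
      _ = b * a * b := by rw [e2, ← mul_assoc]

variable (hπ : Function.Surjective π)
include hπ

omit hp in
/-- Lifts with central square along the tree. -/
theorem exists_tree : ∃ (y : ℕ → E) (c : E), (∀ e, Commute c e) ∧ π c = 1 ∧ (∀ x, π (y x) = qU p x) ∧
    (∀ x < 8, y x * y x = c) ∧
    ∀ i < 8, ∀ j < 8, joinedU i j = true → ¬ (i = 5 ∧ j = 6) → ¬ (i = 6 ∧ j = 5) →
      y i * y j * y i = y j * y i * y j := by
  choose u hu using fun x : ℕ => hπ (qU p x)
  have hc1 : π (u 0 * u 0) = 1 := by rw [map_mul, hu, qU, ← map_mul, genU_sq, map_one]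
  set c := u 0 * u 0 with hcd
  have hcc := cen_of_one hker hc1
  let nx : E → ℕ → E := fun a j => a * u j * a * (a * u j)⁻¹
  have st : ∀ {a : E} (i j : ℕ), i < 8 → j < 8 → joinedU i j = true → π a = qU p i ∧ a * a = c →
      (π (nx a j) = qU p j ∧ nx a j * nx a j = c) ∧ a * nx a j * a = nx a j * a * nx a j :=
    fun i j hi hj hij ⟨h1, h2⟩ =>
      have h := edge_step p hker hi hj hij h1 (hu j) (by rw [h2]; exact hcc) rfl
      ⟨⟨h.1, h.2.1.trans h2⟩, h.2.2⟩
  obtain ⟨f1, b1⟩ := st 0 1 (by decide) (by decide) (by decide) ⟨hu 0, hcd.symm⟩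
  obtain ⟨f2, b2⟩ := st 1 2 (by decide) (by decide) (by decide) f1
  obtain ⟨f3, b3⟩ := st 2 3 (by decide) (by decide) (by decide) f2
  obtain ⟨f4, b4⟩ := st 3 4 (by decide) (by decide) (by decide) f3
  obtain ⟨f5, b5⟩ := st 1 5 (by decide) (by decide) (by decide) f1
  obtain ⟨f7, b7⟩ := st 3 7 (by decide) (by decide) (by decide) f3
  obtain ⟨f6, b6⟩ := st 7 6 (by decide) (by decide) (by decide) f7
  set z1 := nx (u 0) 1
  set z2 := nx z1 2
  set z3 := nx z2 3
  set z4 := nx z3 4
  set z5 := nx z1 5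
  set z7 := nx z3 7
  set z6 := nx z7 6
  let y : ℕ → E := fun x => [u 0, z1, z2, z3, z4, z5, z6, z7].getD x 1
  refine ⟨y, c, hcc, hc1, fun x => ?_, fun x hx => ?_, fun i hi j hj h n1 n2 => ?_⟩
  · by_cases hx : x < 8
    · interval_cases x
      exacts [hu 0, f1.1, f2.1, f3.1, f4.1, f5.1, f6.1, f7.1]
    · show π ([u 0, z1, z2, z3, z4, z5, z6, z7].getD x 1) = _
      rw [List.getD_eq_default _ _ (by simp; omega), map_one, qU, genU]
      refine (map_one p).symm.trans (congrArg p (Subtype.ext ?_))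
      show (1 : presFi22.Grp) = pr (ex x)
      rw [ex, List.getD_eq_default _ _ (by show 8 ≤ x; omega), Fi22Pair.pr_nil]
  · interval_cases x
    exacts [hcd.symm, f1.2, f2.2, f3.2, f4.2, f5.2, f6.2, f7.2]
  · interval_cases i <;> interval_cases j <;>
      first
        | exact absurd h (by decide)
        | exact absurd ⟨rfl, rfl⟩ n1
        | exact absurd ⟨rfl, rfl⟩ n2
        | exact b1
        | exact b1.symm
        | exact b2
        | exact b2.symm
        | exact b3
        | exact b3.symm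
        | exact b4
        | exact b4.symm
        | exact b5
        | exact b5.symm
        | exact b6
        | exact b6.symm
        | exact b7
        | exact b7.symm

/-- The relations of the presentation on lifts. -/
structure Rels (τ : ℕ → E) : Prop where
  sq : ∀ x, τ x * τ x = 1
  comm : ∀ i < 8, ∀ j < 8, joinedU i j = false → Commute (τ i) (τ j)
  braid : ∀ i < 8, ∀ j < 8, joinedU i j = true → τ i * τ j * τ i = τ j * τ i * τ j
  tOne : (tW.map τ).prod = 1
  cCen : ∀ e, Commute (cW.map τ).prod e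

/-- **Lifts satisfying the presentation.** -/
theorem exists_rels : ∃ τ : ℕ → E, (∀ x, π (τ x) = qU p x) ∧ Rels τ := by
  obtain ⟨y, c, hcc, hc1, hy, hsq, htree⟩ := exists_tree p hker hπ
  -- the common commutator
  set ε := y 0 * y 4 * (y 0)⁻¹ * (y 4)⁻¹ with hεd
  have hnon := List.all_eq_true.mp nonedges_ok
  have hε : ∀ e, Commute ε e := cen_of_one hker (by
    have h04 := hnon (0, 4, []) (by decide)
    rw [okPair, Bool.and_eq_true] at h04
    have hq : qU p 0 * qU p 4 = qU p 4 * qU p 0 := by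
      have := qU_eq p (u := [0, 4]) (v := [4, 0]) (by decide +kernel)
      simpa using this
    rw [hεd, map_mul, map_mul, map_mul, map_inv, map_inv, hy, hy, hq, mul_inv_cancel_right, mul_inv_cancel])
  have h04 : y 0 * y 4 = ε * (y 4 * y 0) := by rw [hεd]; group
  have hε2 : ε * ε = 1 := by
    have e1 : y 0 * y 4 * (y 0)⁻¹ = ε * y 4 := by rw [h04]; group
    have e : y 0 * y 0 * y 4 * (y 0 * y 0)⁻¹ = ε * ε * y 4 := by
      calc y 0 * y 0 * y 4 * (y 0 * y 0)⁻¹ = y 0 * (y 0 * y 4 * (y 0)⁻¹) * (y 0)⁻¹ := by group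
        _ = y 0 * ε * y 4 * (y 0)⁻¹ := by rw [e1, ← mul_assoc]
        _ = ε * (y 0 * y 4 * (y 0)⁻¹) := by rw [← (hε (y 0)).eq]; group
        _ = ε * ε * y 4 := by rw [e1, ← mul_assoc]
    rw [hsq 0 (by norm_num), (hcc (y 4)).eq, mul_inv_cancel_right] at e
    exact mul_eq_right.mp e.symm
  -- the five
  let t : ℕ → E := fun k => valE y (fiveH.getD k []) * y 0 * (valE y (fiveH.getD k []))⁻¹
  have htπ : ∀ k, π (t k) = ((cjU (fiveH.getD k [])).map (qU p)).prod := fun k => by
    rw [map_mul, map_mul, map_inv, π_val p hy, hy, cjU, qU_cjU]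
  have ht4 : ∀ k < 5, y 4 * t k = ε * (t k * y 4) := fun k hk =>
    pair_comm p hker hy hε h04 (List.all_eq_true.mp fiveP_ok k (List.mem_range.mpr hk))
      (by rw [hy, List.map_singleton, List.prod_singleton]) (htπ k)
  set P := t 0 * t 1 * t 2 * t 3 * t 4 with hPd
  have hPc : ∀ e, Commute P e := cen_of_one hker (by
    have h := qU_rel p hp five_prod
    rw [show fiveH.flatMap cjU = cjU (fiveH.getD 0 []) ++ cjU (fiveH.getD 1 []) ++ cjU (fiveH.getD 2 []) ++
      cjU (fiveH.getD 3 []) ++ cjU (fiveH.getD 4 []) by decide +kernel] at h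
    simp only [List.map_append, List.prod_append] at h
    rw [hPd, map_mul, map_mul, map_mul, map_mul, htπ, htπ, htπ, htπ, htπ, h])
  have hmove : ∀ a b : E, y 4 * a = ε * (a * y 4) → ∀ m : E, (∀ e, Commute m e) → y 4 * b = m * (b * y 4) →
      y 4 * (a * b) = ε * m * (a * b * y 4) := by
    intro a b ha m hm hb
    calc y 4 * (a * b) = y 4 * a * b := (mul_assoc _ _ _).symm
      _ = ε * a * (y 4 * b) := by rw [ha]; group
      _ = ε * (a * m) * (b * y 4) := by rw [hb]; group
      _ = ε * (m * a) * (b * y 4) := by rw [(hm a).eq]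
      _ = ε * m * (a * b * y 4) := by group
  have hε1 : ε = 1 := by
    have m2 := hε
    have e4 := hmove (t 3) (t 4) (ht4 3 (by norm_num)) ε hε (ht4 4 (by norm_num))
    have e3 := hmove (t 2) _ (ht4 2 (by norm_num)) _ (fun e => (hε e).mul_left (hε e)) e4
    have e2 := hmove (t 1) _ (ht4 1 (by norm_num)) _ (fun e => (hε e).mul_left ((hε e).mul_left (hε e))) e3
    have e1 := hmove (t 0) _ (ht4 0 (by norm_num)) _
      (fun e => (hε e).mul_left ((hε e).mul_left ((hε e).mul_left (hε e)))) e2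
    rw [show t 0 * (t 1 * (t 2 * (t 3 * t 4))) = P by simp only [hPd, mul_assoc], ← (hPc (y 4)).eq] at e1
    have h5 : ε * (ε * (ε * (ε * ε))) = 1 := mul_eq_right.mp e1.symm
    rwa [hε2, mul_one, hε2, mul_one] at h5
  have h04' : y 0 * y 4 = 1 * (y 4 * y 0) := by rw [h04, hε1]
  have hcomm : ∀ a b : E, ∀ wa wb g : List ℕ, okPair wa wb g = true → π a = (wa.map (qU p)).prod →
      π b = (wb.map (qU p)).prod → Commute a b := fun a b wa wb g h ha hb => by
    show a * b = b * a
    rw [pair_comm p hker hy Commute.one_left h04' h ha hb, one_mul]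
  -- the normalisation
  have htc : ∀ i < 5, ∀ j < 5, i < j → Commute (t i) (t j) := by
    intro i hi j hj hij
    obtain ⟨e, he, hb⟩ := List.any_eq_true.mp (fiveQ_cover i hi j hj hij)
    rw [Bool.and_eq_true] at hb
    obtain ⟨q1, q2⟩ := hb
    have h := List.all_eq_true.mp fiveQ_ok e he
    rw [Nat.eq_of_beq_eq_true q1, Nat.eq_of_beq_eq_true q2] at h
    exact hcomm _ _ _ _ _ h (htπ i) (htπ j)
  have htsq : ∀ k, t k * t k = c := fun k => by
    calc t k * t k = valE y (fiveH.getD k []) * (y 0 * y 0) * (valE y (fiveH.getD k []))⁻¹ := by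
          simp only [t]; group
      _ = c := by rw [hsq 0 (by norm_num), ← (hcc _).eq, mul_inv_cancel_right]
  have c01 := htc 0 (by norm_num) 1 (by norm_num) (by norm_num)
  have c02 := htc 0 (by norm_num) 2 (by norm_num) (by norm_num)
  have c03 := htc 0 (by norm_num) 3 (by norm_num) (by norm_num)
  have c04 := htc 0 (by norm_num) 4 (by norm_num) (by norm_num)
  have c12 := htc 1 (by norm_num) 2 (by norm_num) (by norm_num)
  have c13 := htc 1 (by norm_num) 3 (by norm_num) (by norm_num)
  have c14 := htc 1 (by norm_num) 4 (by norm_num) (by norm_num)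
  have c23 := htc 2 (by norm_num) 3 (by norm_num) (by norm_num)
  have c24 := htc 2 (by norm_num) 4 (by norm_num) (by norm_num)
  have c34 := htc 3 (by norm_num) 4 (by norm_num) (by norm_num)
  have hP2 : P * P = c ^ 5 := by
    rw [← pow_two, hPd, (((c04.mul_left c14).mul_left c24).mul_left c34).mul_pow,
      ((c03.mul_left c13).mul_left c23).mul_pow, (c02.mul_left c12).mul_pow, c01.mul_pow]
    simp only [pow_two, htsq]
    simp only [pow_succ, pow_zero, one_mul]
  set m := P⁻¹ * c ^ 2 with hmd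
  have hm : ∀ e, Commute m e := fun e => (hPc e).inv_left.mul_left ((hcc e).pow_left 2)
  have hcm : c * (m * m) = 1 := by
    have e : m * m = (P * P)⁻¹ * c ^ 4 := by
      rw [hmd, show c ^ 4 = c ^ 2 * c ^ 2 by rw [← pow_add], mul_inv_rev P P]
      calc P⁻¹ * c ^ 2 * (P⁻¹ * c ^ 2) = P⁻¹ * (c ^ 2 * P⁻¹) * c ^ 2 := by group
        _ = P⁻¹ * (P⁻¹ * c ^ 2) * c ^ 2 := by rw [((hPc (c ^ 2)).inv_left).eq]
        _ = P⁻¹ * P⁻¹ * (c ^ 2 * c ^ 2) := by group
    rw [e, hP2]
    group
  have hπm : π m = 1 := by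
    have h : π P = 1 := by
      have h := qU_rel p hp five_prod
      rw [show fiveH.flatMap cjU = cjU (fiveH.getD 0 []) ++ cjU (fiveH.getD 1 []) ++ cjU (fiveH.getD 2 []) ++
        cjU (fiveH.getD 3 []) ++ cjU (fiveH.getD 4 []) by decide +kernel] at h
      simp only [List.map_append, List.prod_append] at h
      rw [hPd, map_mul, map_mul, map_mul, map_mul, htπ, htπ, htπ, htπ, htπ, h]
    rw [hmd, map_mul, map_inv, map_pow, hc1, h]; simp
  let τ : ℕ → E := fun x => if x < 8 then y x * m else 1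
  have τv : ∀ x, x < 8 → τ x = y x * m := fun x hx => if_pos hx
  have hτπ : ∀ x, π (τ x) = qU p x := fun x => by
    by_cases hx : x < 8
    · rw [τv x hx, map_mul, hπm, mul_one, hy]
    · show π (if x < 8 then y x * m else 1) = _
      rw [if_neg hx, map_one, qU, genU]
      refine (map_one p).symm.trans (congrArg p (Subtype.ext ?_))
      show (1 : presFi22.Grp) = pr (ex x)
      rw [ex, List.getD_eq_default _ _ (by show 8 ≤ x; omega), Fi22Pair.pr_nil]
  have hτsq : ∀ x, τ x * τ x = 1 := fun x => by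
    by_cases hx : x < 8
    · rw [τv x hx, mul_assoc, ← mul_assoc m, (hm (y x)).eq, mul_assoc, ← mul_assoc, hsq x hx, hcm]
    · show (if x < 8 then y x * m else 1) * (if x < 8 then y x * m else 1) = 1
      rw [if_neg hx, one_mul]
  have hτi : ∀ x, (τ x)⁻¹ = τ x := fun x => inv_eq_of_mul_eq_one_right (hτsq x)
  have hτc : ∀ i < 8, ∀ j < 8, joinedU i j = false → Commute (τ i) (τ j) := by
    intro i hi j hj h
    rcases nonedges_cover i hi j hj h with rfl | h'
    · exact Commute.refl _
    obtain ⟨e, he, hb⟩ := List.any_eq_true.mp h'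
    have hp' := hnon e he
    simp only [Bool.or_eq_true, Bool.and_eq_true] at hb
    have hπ1 : ∀ x, π (τ x) = (([x] : List ℕ).map (qU p)).prod := fun x => by
      rw [hτπ, List.map_singleton, List.prod_singleton]
    rcases hb with ⟨q1, q2⟩ | ⟨q1, q2⟩
    · rw [Nat.eq_of_beq_eq_true q1, Nat.eq_of_beq_eq_true q2] at hp'
      exact hcomm _ _ _ _ _ hp' (hπ1 i) (hπ1 j)
    · rw [Nat.eq_of_beq_eq_true q1, Nat.eq_of_beq_eq_true q2] at hp'
      exact (hcomm _ _ _ _ _ hp' (hπ1 j) (hπ1 i)).symm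
  have hshift : ∀ a b d : E, a * m * (b * m) * (d * m) = a * b * d * (m * m * m) := fun a b d => by
    calc a * m * (b * m) * (d * m) = a * (m * b) * (m * d) * m := by group
      _ = a * (b * m) * (d * m) * m := by rw [(hm b).eq, (hm d).eq]
      _ = a * b * (m * d) * (m * m) := by group
      _ = a * b * d * (m * m * m) := by rw [(hm d).eq]; group
  have hτt : ∀ i < 8, ∀ j < 8, joinedU i j = true → ¬ (i = 5 ∧ j = 6) → ¬ (i = 6 ∧ j = 5) →
      τ i * τ j * τ i = τ j * τ i * τ j := fun i hi j hj h n1 n2 => by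
    rw [τv i hi, τv j hj, hshift, hshift, htree i hi j hj h n1 n2]
  -- conjugation along a braid
  have cb : ∀ a b : E, a * b * a = b * a * b → a * b * a * (a * b)⁻¹ = b := fun a b h => by rw [h]; group
  have t15 := hτt 1 (by norm_num) 5 (by norm_num) (by decide) (by simp) (by simp)
  have t21 := hτt 2 (by norm_num) 1 (by norm_num) (by decide) (by simp) (by simp)
  have t32 := hτt 3 (by norm_num) 2 (by norm_num) (by decide) (by simp) (by simp)
  have t73 := hτt 7 (by norm_num) 3 (by norm_num) (by decide) (by simp) (by simp)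
  have t67 := hτt 6 (by norm_num) 7 (by norm_num) (by decide) (by simp) (by simp)
  have v67 := cb _ _ t67
  have v73 := cb _ _ t73
  have v32 := cb _ _ t32
  have v21 := cb _ _ t21
  have v15 := cb _ _ t15
  have S0 := stab_comm p hp hker hy h04' hτπ stab0_ok
  have S1 := stab_comm p hp hker hy h04' hτπ stab1_ok
  have hconj : ∀ {g : E}, Commute g (τ 6) → g * τ 6 * g⁻¹ = τ 6 := fun h => by rw [h.eq, mul_inv_cancel_right]
  -- the last edge
  have t56 : τ 5 * τ 6 * τ 5 = τ 6 * τ 5 * τ 6 := by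
    have e := hconj S0
    set P5 := τ 1 * τ 5 * (τ 2 * τ 1) * (τ 3 * τ 2) * (τ 7 * τ 3) * (τ 6 * τ 7) with hP5
    have hP : P5 * τ 6 * P5⁻¹ = τ 5 := by
      calc P5 * τ 6 * P5⁻¹ = τ 1 * τ 5 * (τ 2 * τ 1 * (τ 3 * τ 2 * (τ 7 * τ 3 * (τ 6 * τ 7 * τ 6 * (τ 6 * τ 7)⁻¹) *
            (τ 7 * τ 3)⁻¹) * (τ 3 * τ 2)⁻¹) * (τ 2 * τ 1)⁻¹) * (τ 1 * τ 5)⁻¹ := by rw [hP5]; group
        _ = τ 5 := by rw [v67, v73, v32, v21, v15]
    have hW : valE τ stabW0 = τ 5 * τ 6 * P5 := by
      simp only [valE, stabW0, List.map_cons, List.map_nil, List.prod_cons, List.prod_nil, mul_one, hP5, mul_assoc]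
    rw [hW, show τ 5 * τ 6 * P5 * τ 6 * (τ 5 * τ 6 * P5)⁻¹ = τ 5 * τ 6 * (P5 * τ 6 * P5⁻¹) * (τ 5 * τ 6)⁻¹ by group,
      hP] at e
    calc τ 5 * τ 6 * τ 5 = τ 5 * τ 6 * τ 5 * (τ 5 * τ 6)⁻¹ * (τ 5 * τ 6) := by rw [inv_mul_cancel_right]
      _ = τ 6 * τ 5 * τ 6 := by rw [e, ← mul_assoc]
  refine ⟨τ, hτπ, hτsq, hτc, fun i hi j hj h => ?_, ?_, ?_⟩
  · by_cases n1 : i = 5 ∧ j = 6
    · rw [n1.1, n1.2]; exact t56
    by_cases n2 : i = 6 ∧ j = 5
    · rw [n2.1, n2.2]; exact t56.symm
    exact hτt i hi j hj h n1 n2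
  · set a := τ 7
    set k := τ 3 * τ 2 * τ 1 * τ 5 with hkd
    set b := k * τ 6 * k⁻¹ with hbd
    have hki : k⁻¹ = τ 5 * τ 1 * τ 2 * τ 3 := by
      rw [hkd, mul_inv_rev, mul_inv_rev, mul_inv_rev, hτi, hτi, hτi, hτi]; simp only [mul_assoc]
    have hb1 : b = τ 3 * τ 2 * τ 1 * τ 5 * τ 6 * (τ 5 * τ 1 * τ 2 * τ 3) := by rw [hbd, hki, hkd]
    have hW : valE τ stabW1 = k⁻¹ * a * b * (τ 6 * τ 7) := by
      simp only [valE, stabW1, List.map_cons, List.map_nil, List.prod_cons, List.prod_nil, mul_one, hki, hb1, a,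
        mul_assoc]
    have e := hconj S1
    rw [hW, show k⁻¹ * a * b * (τ 6 * τ 7) * τ 6 * (k⁻¹ * a * b * (τ 6 * τ 7))⁻¹ =
      k⁻¹ * (a * b * (τ 6 * τ 7 * τ 6 * (τ 6 * τ 7)⁻¹) * (a * b)⁻¹) * k by group, v67] at e
    have e' : a * b * a * (a * b)⁻¹ = b := by
      calc a * b * a * (a * b)⁻¹ = k * (k⁻¹ * (a * b * a * (a * b)⁻¹) * k) * k⁻¹ := by group
        _ = b := by rw [e, hbd]
    have hbraid : a * b * a = b * a * b := by
      calc a * b * a = a * b * a * (a * b)⁻¹ * (a * b) := by rw [inv_mul_cancel_right]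
        _ = b * a * b := by rw [e', ← mul_assoc]
    have hb2 : b * b = 1 := by
      rw [hbd]; calc k * τ 6 * k⁻¹ * (k * τ 6 * k⁻¹) = k * (τ 6 * τ 6) * k⁻¹ := by group
        _ = 1 := by rw [hτsq]; group
    have hT : (tW.map τ).prod = (a * b) * (a * b) * (a * b) := by
      simp only [tW, List.replicate_succ, List.replicate_zero, List.flatten_cons, List.flatten_nil, List.append_nil,
        List.cons_append, List.nil_append, List.map_cons, List.map_nil, List.prod_cons, List.prod_nil, mul_one, hb1, a,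
        mul_assoc]
    rw [hT]
    calc a * b * (a * b) * (a * b) = a * b * a * (b * a * b) := by simp only [mul_assoc]
      _ = b * a * b * (b * a * b) := by rw [hbraid]
      _ = b * (a * (b * b) * a) * b := by simp only [mul_assoc]
      _ = 1 := by rw [hb2, mul_one, hτsq 7, mul_one, hb2]
  · exact cen_of_one hker ((π_val p hτπ cW).trans (qU_rel p hp cW_ok))

end

end CfsgLib.CosetEnum.U62Mult
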