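/-
The even part of the presented group has order at most twelve times the order of U6(2), and maps onto every stem
extension.
-/
import Cfsg.Agent.Lib.CosetEnum.U62Mult.Lifts
import Cfsg.Agent.Lib.CosetEnum.U62A.Main
import Cfsg.Agent.Lib.CosetEnum.U62B.Main
import Cfsg.Agent.Lib.CosetEnum.U62C.Main
import Cfsg.Agent.Lib.CosetEnum.U62D.Main
import Cfsg.Agent.Lib.CosetEnum.Sub
import Cfsg.Agent.Lib.CosetEnum.Relations
import Cfsg.Prelude.Def_KGroupFacts
import Mathlib.GroupTheory.Abelianization.Defs
import Mathlib.GroupTheory.Commutator.Basic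

set_option autoImplicit false
set_option maxRecDepth 1000000

open scoped commutatorElement

universe u

namespace CfsgLib.CosetEnum.U62Mult

open Cfsg

theorem hidU : ∀ i < presU62.k, presU62.idx (presU62.gen i) = i := by decide

theorem card_all : Finite presU62.Grp ∧ Nat.card presU62.Grp ≤ 220723937280 := by
  have h3 := presU62.card_step U62D.sheet U62D.sel rfl [] presU62.der_nil (by decide +kernel) (by decide +kernel)
    (wordsSub_nil _)
  have h2 := presU62.card_step U62C.sheet U62C.sel rfl [] presU62.der_nil (by decide +kernel) (by decide +kernel) h3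
  have h1 := presU62.card_step U62B.sheet U62B.sel rfl [] presU62.der_nil (by decide +kernel) (by decide +kernel) h2
  have h0 := presU62.card_step U62A.sheet U62A.sel rfl [] presU62.der_nil (by decide +kernel) (by decide +kernel) h1
  have htop : wordsSub presU62.σ (U62A.sel.map fun i => [i]) = ⊤ := by
    rw [eq_top_iff, ← presU62.gen_closure, Subgroup.closure_le]
    rintro _ ⟨x, hx, rfl⟩
    refine Subgroup.subset_closure ⟨[x], List.mem_map.mpr ⟨x, ?_, rfl⟩, by simp⟩
    exact (show ∀ x < 8, x ∈ U62A.sel by decide) x hx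
  rw [htop, Subgroup.card_top] at h0
  haveI := h0.1
  haveI : Finite presU62.Grp := Finite.of_equiv _ (Subgroup.topEquiv (G := presU62.Grp)).toEquiv
  exact ⟨inferInstance, h0.2.trans (le_of_eq (by decide +kernel))⟩

theorem rels_even : ∀ w ∈ presU62.rels, w.length % 2 = 0 := by decide +kernel

theorem rels_lt : ∀ w ∈ presU62.rels, ∀ x ∈ w, x < 8 := by decide +kernel

theorem card_derived : Finite ↥(commutator presU62.Grp) ∧
    2 * Nat.card ↥(commutator presU62.Grp) ≤ 220723937280 := by
  obtain ⟨hfin, hle⟩ := card_all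
  haveI := hfin
  refine ⟨inferInstance, ?_⟩
  obtain ⟨φ, hφ⟩ := presU62.exists_hom (G := Multiplicative (ZMod 2))
    (fun x => if x < 8 then Multiplicative.ofAdd 1 else 1) (fun x => by by_cases h : x < 8 <;> simp [h] <;> decide)
    (fun w hw => by
      rw [List.map_congr_left (g := fun _ => Multiplicative.ofAdd (1 : ZMod 2)) (fun x hx => if_pos (rels_lt w hw x hx)),
        List.map_const', List.prod_replicate]
      have he := rels_even w hw
      rw [show w.length = 2 * (w.length / 2) by omega, pow_mul]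
      exact one_pow _) hidU
  have hs : φ.range = ⊤ := by
    rw [eq_top_iff]
    intro v hv
    clear hv
    have h1 : Multiplicative.ofAdd (1 : ZMod 2) ∈ φ.range := ⟨presU62.σ 0, (hφ 0 (by norm_num)).trans (if_pos (by norm_num))⟩
    have : v = 1 ∨ v = Multiplicative.ofAdd (1 : ZMod 2) := by revert v; decide
    rcases this with rfl | rfl
    exacts [one_mem _, h1]
  have e := φ.ker.card_mul_index
  rw [Subgroup.index_ker, hs, Subgroup.card_top, Nat.card_eq_fintype_card (α := Multiplicative (ZMod 2)),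
    Fintype.card_multiplicative, ZMod.card] at e
  have hc : Nat.card ↥(commutator presU62.Grp) ≤ Nat.card ↥φ.ker :=
    Nat.card_le_card_of_injective _ (Subgroup.inclusion_injective (Abelianization.commutator_subset_ker φ))
  omega

section

variable {G : Type u} [Group G] (p : ↥stabH →* G) (hsurj : Function.Surjective p) (hp : p aT = 1)
  (hG : commutator G = ⊤)
include hsurj hp hG

/-- The even part of the presented group maps onto every stem extension, compatibly. -/
theorem onto_stem {E : Type u} [Group E] [Finite E] {π : E →* G} (hπ : IsStemExtension π) :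
    ∃ φ : presU62.Grp →* E, (∀ x < 8, π (φ (presU62.σ x)) = qU p x) ∧
      (commutator presU62.Grp).map φ = ⊤ := by
  obtain ⟨hs, hker, hcom⟩ := hπ
  obtain ⟨τ, hτ, hsq, hcomm, hbr, hT, hC⟩ := exists_rels p hp hker hs
  have hi : ∀ x, (τ x)⁻¹ = τ x := fun x => inv_eq_of_mul_eq_one_right (hsq x)
  have hrel : ∀ w ∈ presU62.rels, (w.map τ).prod = 1 := by
    intro w hw
    rcases presU62.mem_rels hw with ⟨i, hi', j, hj', rfl⟩ | hw'
    · have hi8 : i < 8 := hi'
      have hj8 : j < 8 := hj'
      have hm : presU62.m i j = if i = j then 1 else if joinedU i j then 3 else 2 :=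
        (show ∀ i < 8, ∀ j < 8, presU62.m i j = if i = j then 1 else if joinedU i j then 3 else 2 by decide +kernel)
          i hi8 j hj8
      rw [prod_coxWord, hm]
      by_cases hij : i = j
      · rw [if_pos hij, hij, pow_one, hsq]
      rw [if_neg hij]
      cases hjn : joinedU i j
      · rw [if_neg (by decide), (hcomm i hi8 j hj8 hjn).mul_pow, pow_two, pow_two, hsq, hsq, one_mul]
      · rw [if_pos rfl]
        calc (τ i * τ j) ^ 3 = (τ i * τ j * τ i) * (τ j * τ i * τ j) := by
              simp only [pow_succ, pow_zero, one_mul, mul_assoc]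
          _ = (τ j * τ i * τ j) * (τ j * τ i * τ j) := by rw [hbr i hi8 j hj8 hjn]
          _ = τ j * τ i * (τ j * τ j) * τ i * τ j := by simp only [mul_assoc]
          _ = 1 := by rw [hsq, mul_one, mul_assoc (τ j), hsq, mul_one, hsq]
    · simp only [presU62, extraU62, cenW, List.mem_cons, List.mem_map, List.mem_range] at hw'
      rcases hw' with rfl | ⟨i, -, rfl⟩
      · exact hT
      · rw [List.map_append, List.map_append, List.map_append, List.prod_append, List.prod_append, List.prod_append,
          prod_reverse_inv τ hsq, List.map_singleton, List.prod_singleton, (hC (τ i)).eq, mul_inv_cancel_right, hsq]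
  obtain ⟨φ, hφ⟩ := presU62.exists_hom τ hsq hrel hidU
  refine ⟨φ, fun x hx => by rw [hφ x hx, hτ], ?_⟩
  have hgen : Subgroup.closure (qU p '' Set.Iio 8) = ⊤ := by
    rw [eq_top_iff, ← Subgroup.map_top_of_surjective p hsurj, ← genU_top, MonoidHom.map_closure, Subgroup.closure_le]
    rintro _ ⟨z, hz, rfl⟩
    rcases hz with rfl | ⟨x, hx, rfl⟩
    · rw [hp]; exact one_mem _
    · exact Subgroup.subset_closure ⟨x, hx, rfl⟩
  have hperf : commutator E = ⊤ := by
    have hm : (commutator E).map π = ⊤ := by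
      rw [commutator_def, Subgroup.map_commutator, Subgroup.map_top_of_surjective π hs, ← commutator_def, hG]
    rw [← Subgroup.comap_map_eq_self (H := commutator E) hcom, hm, Subgroup.comap_top]
  have hL : φ.range = ⊤ := by
    set L := φ.range
    have hmap : L.map π = ⊤ := by
      rw [eq_top_iff, ← hgen, Subgroup.closure_le]
      rintro _ ⟨x, hx, rfl⟩
      exact ⟨τ x, ⟨presU62.σ x, hφ x hx⟩, hτ x⟩
    have hdec : ∀ e : E, ∃ k l, (∀ f, Commute k f) ∧ l ∈ L ∧ e = k * l := fun e => by
      obtain ⟨l, hl, hle⟩ := (hmap.symm ▸ Subgroup.mem_top (π e) : π e ∈ L.map π)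
      exact ⟨e * l⁻¹, l, cen_of_one hker (by rw [map_mul, map_inv, hle, mul_inv_cancel]), hl,
        by rw [inv_mul_cancel_right]⟩
    rw [eq_top_iff, ← hperf, commutator_def, Subgroup.commutator_le]
    intro x _ y _
    obtain ⟨k, l, hk, hl, rfl⟩ := hdec x
    obtain ⟨k', l', hk', hl', rfl⟩ := hdec y
    rw [show ⁅k * l, k' * l'⁆ = l * l' * l⁻¹ * l'⁻¹ by
      simp only [commutatorElement_def, mul_inv_rev]
      calc k * l * (k' * l') * (l⁻¹ * k⁻¹) * (l'⁻¹ * k'⁻¹)
          = k * (l * k') * l' * l⁻¹ * (k⁻¹ * l'⁻¹) * k'⁻¹ := by group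
        _ = k * (k' * l) * l' * l⁻¹ * (l'⁻¹ * k⁻¹) * k'⁻¹ := by rw [(hk' l).eq, ((hk l'⁻¹).inv_left).eq]
        _ = (k * k') * (l * l' * l⁻¹ * l'⁻¹) * (k' * k)⁻¹ := by group
        _ = (k * k') * (l * l' * l⁻¹ * l'⁻¹) * (k * k')⁻¹ := by rw [← (hk k').eq]
        _ = l * l' * l⁻¹ * l'⁻¹ := by rw [((hk _).mul_left (hk' _)).eq, mul_inv_cancel_right]]
    exact mul_mem (mul_mem (mul_mem hl hl') (inv_mem hl)) (inv_mem hl')
  rw [commutator_def, Subgroup.map_commutator, ← MonoidHom.range_eq_map, hL, ← commutator_def, hperf]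

/-- A cover with kernel of order twelve maps onto every stem extension. -/
theorem factor_through {Γ : Type u} [Group Γ] [Finite Γ] {π₀ : Γ →* G} (h₀ : IsStemExtension π₀)
    (hcard : Nat.card Γ = 110361968640) {E : Type u} [Group E] [Finite E] {π : E →* G} (hπ : IsStemExtension π) :
    ∃ f : π₀.ker →* π.ker, Function.Surjective f := by
  obtain ⟨φ₀, e₀, m₀⟩ := onto_stem p hsurj hp hG h₀
  obtain ⟨φ, e, m⟩ := onto_stem p hsurj hp hG hπ
  obtain ⟨hfin, hle⟩ := card_derived
  haveI := hfin
  have heq : π₀.comp φ₀ = π.comp φ := MonoidHom.eq_of_eqOn_dense presU62.gen_closure (by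
    rintro _ ⟨x, hx, rfl⟩
    exact (e₀ x hx).trans (e x hx).symm)
  set D := commutator presU62.Grp
  let ψ₀ : ↥D →* Γ := φ₀.comp D.subtype
  let ψ : ↥D →* E := φ.comp D.subtype
  have s₀ : Function.Surjective ψ₀ := by
    rw [← MonoidHom.range_eq_top, MonoidHom.range_comp, Subgroup.range_subtype, m₀]
  have s : Function.Surjective ψ := by
    rw [← MonoidHom.range_eq_top, MonoidHom.range_comp, Subgroup.range_subtype, m]
  have hb : Function.Bijective ψ₀ := (Nat.bijective_iff_surjective_and_card _).mpr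
    ⟨s₀, le_antisymm (by rw [hcard]; omega) (Nat.card_le_card_of_surjective _ s₀)⟩
  let ev : ↥D ≃* Γ := MulEquiv.ofBijective ψ₀ hb
  let g : Γ →* E := ψ.comp ev.symm.toMonoidHom
  have hg : ∀ v, π (g v) = π₀ v := fun v => by
    obtain ⟨d, rfl⟩ := ev.surjective v
    show π (ψ (ev.symm (ev d))) = π₀ (ψ₀ d)
    rw [MulEquiv.symm_apply_apply]
    exact (DFunLike.congr_fun heq (d : presU62.Grp)).symm
  have gs : Function.Surjective g := s.comp ev.symm.surjective
  refine ⟨(g.comp π₀.ker.subtype).codRestrict π.ker fun v => ?_, fun v => ?_⟩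
  · rw [MonoidHom.mem_ker, MonoidHom.comp_apply, Subgroup.coe_subtype, hg]; exact v.2
  · obtain ⟨w, hw⟩ := gs v.1
    refine ⟨⟨w, ?_⟩, Subtype.ext hw⟩
    rw [MonoidHom.mem_ker, ← hg, hw]; exact v.2

end

end CfsgLib.CosetEnum.U62Mult
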