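/-
The twelvefold cover of U6(2) inside the sixfold cover of Fi22, and the Schur multiplier.
-/
import Cfsg.Agent.Lib.CosetEnum.U62Mult.Upper
import Cfsg.Agent.Lib.CosetEnum.U62Mult.CoverChecks
import Cfsg.Agent.Lib.CosetEnum.Fi22Mult.Main

set_option autoImplicit false
set_option maxRecDepth 1000000

universe u

namespace CfsgLib.CosetEnum.U62Mult

open Cfsg Fi22Mult
open Fi22Pair (pr ltW)

attribute [local irreducible] Fi22Mult.gU Fi22Mult.dCoord

instance finiteAmb : Finite Amb := by
  haveI : Finite presFi22.Grp := Cfsg.Agent.S1696.upper.1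
  haveI : Finite presFi23.Grp := Cfsg.Agent.S1697.upper.1
  haveI : Finite (Matrix (Fin dimF) (Fin dimF) (ZMod 2))ˣ :=
    @Finite.of_injective _ (Matrix (Fin dimF) (Fin dimF) (ZMod 2))
      (@Pi.finite _ _ _ fun _ => @Pi.finite _ _ _ fun _ => inferInstance) Units.val Units.val_injective
  exact inferInstance

/-- The projection of the sixfold cover. -/
noncomputable def πc : cover →* presFi22.Grp := (MonoidHom.fst _ _).comp cover.subtype

theorem πc_gen {x : ℕ} (hx : x < 9) : πc (cGen x) = presFi22.σ x := congrArg Prod.fst (cGen_val hx)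

theorem cGen_sq (x : ℕ) : cGen x * cGen x = 1 := by
  by_cases hx : x < 9
  · refine Subtype.ext ?_
    rw [Subgroup.coe_mul, cGen_val hx, gCov_artin.sq x hx]; rfl
  · rw [cGen, dif_neg hx, one_mul]

theorem cGen_artin : Artin cGen (1 : cover) := by
  have g := gCov_artin
  refine ⟨fun x => Commute.one_left x, fun i _ => cGen_sq i, fun i hi j hj h => Subtype.ext ?_,
    fun i hi j hj h => Subtype.ext ?_⟩
  · rw [Subgroup.coe_mul, Subgroup.coe_mul, cGen_val hi, cGen_val hj, (g.comm i hi j hj h).eq]
  · simp only [Subgroup.coe_mul, cGen_val hi, cGen_val hj]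
    exact g.braid i hi j hj h

theorem cGen_top : Subgroup.closure (cGen '' Set.Iio 9) = ⊤ := by
  refine Subgroup.map_injective (Subgroup.subtype_injective cover) ?_
  rw [MonoidHom.map_closure, ← MonoidHom.range_eq_map, Subgroup.range_subtype, ← Set.image_comp]
  show _ = Subgroup.closure (gCov '' Set.Iio 9)
  exact congrArg Subgroup.closure (Set.image_congr fun x hx => cGen_val hx)

/-- The generator of the kernel. -/
noncomputable def zc : cover := (spiderW.map cGen).prod * (armW.map cGen).prod

theorem zc_val : (zc : Amb) = (1, Fi23Class.tp, (spiderW.map Fi22Mult.gU).prod) := by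
  rw [zc, Subgroup.coe_mul, cGen_prod word_lt.1, cGen_prod word_lt.2.1, gCov_spider, gCov_arm]
  simp

theorem values_central : (∀ e, Commute (spiderW.map cGen).prod e) ∧ ∀ e, Commute (armW.map cGen).prod e := by
  refine ⟨fun e => Subtype.ext ?_, fun e => Subtype.ext ?_⟩
  · show ((spiderW.map cGen).prod : Amb) * e = e * ((spiderW.map cGen).prod : Amb)
    rw [cGen_prod word_lt.1, gCov_spider]
    exact (cover_central (fun x hx => spider_central hx) e).eq
  · show ((armW.map cGen).prod : Amb) * e = e * ((armW.map cGen).prod : Amb)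
    rw [cGen_prod word_lt.2.1, gCov_arm]
    exact (cover_central (fun x hx => arm_central hx) e).eq

theorem zc_comm (e : cover) : Commute zc e := (values_central.1 e).mul_left (values_central.2 e)

theorem zc_span (e : cover) (he : πc e = 1) : ∃ k : ℕ, e = zc ^ k :=
  haveI : Finite cover := inferInstance
  ker_span (fun _ hx => πc_gen hx) cGen_artin (Subtype.ext ((cGen_prod word_lt.2.2.1).trans gCov_seven)) cGen_top
    values_central.2 values_central.1 e he

theorem zc_six : zc ^ 6 = 1 := sa_pow_six cGen_artin values_central.1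

theorem zc_one : πc zc = 1 := congrArg Prod.fst zc_val

/-- The preimage of the point stabiliser in the sixfold cover. -/
noncomputable def preU : Subgroup cover := stabH.comap πc

/-- The projection of the preimage to the point stabiliser. -/
noncomputable def toH : ↥preU →* ↥stabH := (πc.comp preU.subtype).codRestrict stabH fun e => e.2

theorem toH_val (e : ↥preU) : (toH e : presFi22.Grp) = πc e := rfl

theorem πc_word {w : List ℕ} (hw : ltW w = true) : πc (w.map cGen).prod = pr w := by
  rw [map_list_prod, List.map_map]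
  exact congrArg List.prod (List.map_congr_left fun x hx => πc_gen (Fi22Pair.lt_of hw x hx))

/-- The eight generators in the preimage. -/
noncomputable def pGen (x : ℕ) : ↥preU :=
  ⟨((ex x).map cGen).prod, by show πc _ ∈ stabH; rw [πc_word (lt_ex x)]; exact ex_mem x⟩

theorem pGen_val (w : List ℕ) : (((w.map pGen).prod : ↥preU) : cover) = ((expW w).map cGen).prod := by
  induction w with
  | nil => rfl
  | cons x w ih =>
    rw [List.map_cons, List.prod_cons, Subgroup.coe_mul, ih]
    show ((ex x).map cGen).prod * ((expW w).map cGen).prod = ((ex x ++ expW w).map cGen).prod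
    rw [List.map_append, List.prod_append]

theorem pGen_sq (x : ℕ) : pGen x * pGen x = 1 := by
  refine Subtype.ext ?_
  show ((ex x).map cGen).prod * ((ex x).map cGen).prod = 1
  have hpal : (ex x).reverse = ex x := by
    by_cases hx : x < 8
    · exact ex_palin x hx
    · rw [ex, List.getD_eq_default _ _ (by show 8 ≤ x; omega)]; rfl
  conv_lhs => arg 1; rw [← hpal]
  rw [prod_reverse_inv cGen cGen_sq, inv_mul_cancel]

/-- The zeroth transposition in the preimage. -/
noncomputable def gT : ↥preU := ⟨cGen 0, by show πc _ ∈ stabH; rw [πc_gen (by norm_num)]; exact mem_stabH.mpr rfl⟩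

/-- The kernel generator in the preimage. -/
noncomputable def zU : ↥preU := ⟨zc, by show πc _ ∈ stabH; rw [zc_one]; exact one_mem _⟩

theorem toH_gT : toH gT = aT := Subtype.ext (πc_gen (x := 0) (by norm_num))

theorem toH_zU : toH zU = 1 := Subtype.ext zc_one

theorem toH_surj : Function.Surjective toH := fun h => by
  have hs : Function.Surjective πc := by
    rw [← MonoidHom.range_eq_top, eq_top_iff, ← presFi22.gen_closure, Subgroup.closure_le]
    rintro _ ⟨x, hx, rfl⟩
    exact ⟨cGen x, πc_gen hx⟩
  obtain ⟨e, he⟩ := hs h.1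
  exact ⟨⟨e, by show πc e ∈ stabH; rw [he]; exact h.2⟩, Subtype.ext he⟩

theorem toH_ker {e : ↥preU} (he : toH e = 1) : ∃ n : ℕ, e = zU ^ n := by
  obtain ⟨n, hn⟩ := zc_span e.1 (congrArg Subtype.val he)
  exact ⟨n, Subtype.ext (by rw [Subgroup.coe_pow]; exact hn)⟩

theorem toH_zU_pow (n : ℕ) : toH (zU ^ n) = 1 := by rw [map_pow, toH_zU, one_pow]

theorem conj_list (L : List (List ℕ)) :
    Abelianization.of ((L.flatMap cjU).map pGen).prod = Abelianization.of (pGen 0) ^ L.length := by
  induction L with
  | nil => simp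
  | cons h L ih =>
    rw [List.flatMap_cons, List.map_append, List.prod_append, map_mul, ih, List.length_cons, pow_succ']
    congr 1
    rw [cjU, List.map_append, List.map_append, List.prod_append, List.prod_append,
      prod_reverse_inv pGen pGen_sq, List.map_singleton, List.prod_singleton, map_mul, map_mul, map_inv,
      mul_comm (Abelianization.of (h.map pGen).prod), mul_inv_cancel_right]

theorem conj_list_mem {L : List (List ℕ)} (hL : Even L.length) :
    ((L.flatMap cjU).map pGen).prod ∈ commutator ↥preU := by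
  rw [← Abelianization.ker_of, MonoidHom.mem_ker, conj_list]
  obtain ⟨k, hk⟩ := hL
  rw [hk, ← two_mul, pow_mul, pow_two, ← map_mul, pGen_sq, map_one, one_pow]

theorem zU_val (n : ℕ) : (((zU ^ n : ↥preU) : cover) : Amb) =
    ((1 : presFi22.Grp), Fi23Class.tp ^ n, (spiderW.map Fi22Mult.gU).prod ^ n) := by
  rw [Subgroup.coe_pow, Subgroup.coe_pow, show ((zU : ↥preU) : cover) = zc from rfl, zc_val, Prod.pow_mk,
    Prod.pow_mk, one_pow]

theorem spider_three : (spiderW.map Fi22Mult.gU).prod ^ 3 = 1 := by
  have h := congrArg (fun v : Amb => v.2.2) (congrArg Subtype.val (spider_cube cGen_artin values_central.1))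
  rw [Subgroup.coe_pow, cGen_prod word_lt.1, gCov_spider, Prod.pow_mk, Prod.pow_mk] at h
  exact h

theorem word_val {w : List ℕ} (hw : ltW w = true) : (((w.map cGen).prod : cover) : Amb) =
    (pr w, (w.map dCoord).prod, (w.map Fi22Mult.gU).prod) := by
  rw [cGen_prod (Fi22Pair.lt_of hw)]
  show (w.map fun x => ((presFi22.σ x, dCoord x, Fi22Mult.gU x) : Amb)).prod = _
  rw [prod_triple]
  rfl

/-- A product of an even number of conjugates lying over the identity is an even power. -/
theorem sixty_power : ∃ n : ℕ, zU ^ n ∈ commutator ↥preU ∧ ¬ 3 ∣ n := by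
  have hmem := conj_list_mem (L := sixtyH) (by decide +kernel)
  have hone : toH ((sixtyH.flatMap cjU).map pGen).prod = 1 := Subtype.ext (by
    rw [toH_val, pGen_val, πc_word (lt_expW _), Fi22Pair.sound (lt_expW _) rfl six_one.2, Fi22Pair.pr_nil]; rfl)
  obtain ⟨n, hn⟩ := toH_ker hone
  refine ⟨n, hn ▸ hmem, fun ⟨k, hk⟩ => ?_⟩
  have h := congrArg (fun e : ↥preU => (((e : cover) : Amb)).2.2) hn
  simp only [zU_val] at h
  rw [pGen_val, word_val (lt_expW _), hk, pow_mul, spider_three, one_pow] at h
  have hb : ((expW (sixtyH.flatMap cjU)).map Fi22Mult.gU).prod = ((blockW.map Fi22Mult.gU).prod) ^ 10 := by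
    have hrep : ∀ (k : ℕ) (l : List ℕ), ((expW ((List.replicate k l).flatten)).map Fi22Mult.gU).prod =
        ((expW l).map Fi22Mult.gU).prod ^ k := by
      intro k l
      induction k with
      | zero => rfl
      | succ k ih =>
        rw [List.replicate_succ, List.flatten_cons, expW, List.flatMap_append, List.map_append, List.prod_append,
          pow_succ']
        exact congrArg _ ih
    rw [block_word, hrep]; rfl
  rw [hb] at h
  have h' := congrArg Units.val h
  rw [Units.val_pow_eq_pow_val, gU_prod, block_mat, Units.val_one] at h'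
  have e2 : toF bMat2 = toF bMat1 * toF bMat1 := by rw [← block_two, toF_mulR _ _ block_len.1]
  have e4 : toF bMat4 = toF bMat2 * toF bMat2 := by rw [← block_four, toF_mulR _ _ block_len.2.1]
  have e8 : toF bMat8 = toF bMat4 * toF bMat4 := by rw [← block_eight, toF_mulR _ _ block_len.2.2.1]
  have e10 : toF wmat = toF bMat1 ^ 10 := by
    rw [← block_ten, toF_mulR _ _ block_len.2.2.2, e8, e4, e2]
    simp only [pow_succ, pow_zero, one_mul, mul_assoc]
  apply wU_ne
  refine Units.ext ?_
  rw [Units.val_pow_eq_pow_val, gU_prod, spider_mat, e10, h', one_pow, Units.val_one]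

/-- A product of six conjugates lying over the identity is an odd power. -/
theorem six_power : ∃ n : ℕ, zU ^ n ∈ commutator ↥preU ∧ ¬ 2 ∣ n := by
  have hmem := conj_list_mem (L := sixH) (by decide +kernel)
  have hone : toH ((sixH.flatMap cjU).map pGen).prod = 1 := Subtype.ext (by
    rw [toH_val, pGen_val, πc_word (lt_expW _), Fi22Pair.sound (lt_expW _) rfl six_one.1, Fi22Pair.pr_nil]; rfl)
  obtain ⟨n, hn⟩ := toH_ker hone
  refine ⟨n, hn ▸ hmem, fun ⟨k, hk⟩ => ?_⟩
  have h := congrArg (fun e : ↥preU => (((e : cover) : Amb)).2.1) hn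
  simp only [zU_val] at h
  obtain ⟨j, hj⟩ : Even (expW (sixH.flatMap cjU)).length := Nat.even_iff.mpr (by decide +kernel)
  rw [pGen_val, word_val (lt_expW _), hk, pow_mul, pow_two, tp_sq, one_pow] at h
  simp only [(dCoord_word _ (Fi22Pair.lt_of (lt_expW _))).1, hj] at h
  rw [← two_mul, pow_mul, pow_two, tp_sq, one_pow, mul_one] at h
  have hm := six_moved
  simp only [List.any_eq_true, List.mem_range, Bool.not_eq_true'] at hm
  obtain ⟨d, hd, hne⟩ := hm
  apply Nat.ne_of_beq_eq_false hne
  have hd' : d < Fi31671.cert.T.n := lt_of_lt_of_le hd (by decide)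
  have e := Fi31671.cert.hom_word_run' Fi31671.hlt Fi23Class.hid (sixW.map Fi23Class.emb)
    (fun x hx => by
      obtain ⟨y, hy, rfl⟩ := List.mem_map.mp hx
      exact (show ∀ y < 9, Fi23Class.emb y < 10 by decide) y (Fi22Pair.lt_of (lt_expW _) y hy)) ⟨d, hd'⟩
  rw [show ((sixW.map Fi23Class.emb).map presFi23.σ).prod = 1 from h, map_one, Equiv.Perm.one_apply] at e
  exact e.symm

theorem zU_mem : zU ∈ commutator ↥preU := by
  obtain ⟨a, ha, ha3⟩ := sixty_power
  obtain ⟨b, hb, hb2⟩ := six_power
  have h6 : zU ^ 6 = 1 := Subtype.ext (by rw [Subgroup.coe_pow]; exact zc_six)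
  have hmod : ∀ m : ℕ, zU ^ m = zU ^ (m % 6) := fun m => pow_eq_pow_mod m h6
  have h2 : zU ^ 2 ∈ commutator ↥preU := by
    have h := pow_mem ha 2
    rw [← pow_mul, hmod] at h
    have hh : a * 2 % 6 = 2 ∨ a * 2 % 6 = 4 := by omega
    rcases hh with e | e <;> rw [e] at h
    · exact h
    · have h' := pow_mem h 2
      rwa [← pow_mul, hmod] at h'
  have h3 : zU ^ 3 ∈ commutator ↥preU := by
    have h := pow_mem hb 3
    rw [← pow_mul, hmod, show b * 3 % 6 = 3 by omega] at h
    exact h
  rw [show zU = zU ^ 3 * (zU ^ 2)⁻¹ by group]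
  exact mul_mem h3 (inv_mem h2)

variable (hH : commutator ↥stabH = ⊤)
include hH

theorem preU_perfect : commutator ↥preU = ⊤ := by
  have hm : (commutator ↥preU).map toH = ⊤ := by
    rw [commutator_def, Subgroup.map_commutator, Subgroup.map_top_of_surjective toH toH_surj, ← commutator_def, hH]
  rw [← Subgroup.comap_map_eq_self (H := commutator ↥preU) (f := toH) fun e he => by
    obtain ⟨n, rfl⟩ := toH_ker he
    exact pow_mem zU_mem n, hm, Subgroup.comap_top]

theorem gT_central (e : ↥preU) : Commute e gT := by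
  let χ : ↥preU → cover := fun e => e * gT * (e : cover)⁻¹ * ((gT : ↥preU) : cover)⁻¹
  have hker : ∀ e : ↥preU, πc (χ e) = 1 := fun e => by
    have := congrArg Subtype.val (aT_central (toH e)).eq
    simp only [Subgroup.coe_mul, toH_val] at this
    show πc (e * gT * (e : cover)⁻¹ * ((gT : ↥preU) : cover)⁻¹) = 1
    rw [map_mul, map_mul, map_mul, map_inv, map_inv]
    rw [show πc (gT : cover) = (aT : presFi22.Grp) from congrArg Subtype.val toH_gT, this, mul_inv_cancel_right,
      mul_inv_cancel]
  have hcen : ∀ e f, Commute (χ e) f := fun e f => by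
    obtain ⟨n, hn⟩ := zc_span _ (hker e)
    rw [hn]; exact (zc_comm f).pow_left n
  let K : Subgroup cover := Subgroup.zpowers zc
  let f : ↥preU →* cover :=
    MonoidHom.mk' χ fun a b => by
      calc χ (a * b) = (a : cover) * χ b * (gT : cover) * (a : cover)⁻¹ * ((gT : ↥preU) : cover)⁻¹ := by
            simp only [χ, Subgroup.coe_mul]; group
        _ = χ b * χ a := by rw [← (hcen b (a : cover)).eq]; simp only [χ]; group
        _ = χ a * χ b := (hcen b (χ a)).eq
  have h1 : f e = 1 := by
    have hle : commutator ↥preU ≤ f.ker := by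
      rw [commutator_def, Subgroup.commutator_le]
      intro a _ b _
      rw [MonoidHom.mem_ker, map_commutatorElement, commutatorElement_eq_one_iff_commute]
      exact hcen a _
    exact hle (by rw [preU_perfect hH]; trivial)
  refine Subtype.ext ?_
  have : (e : cover) * gT * (e : cover)⁻¹ * ((gT : ↥preU) : cover)⁻¹ = 1 := h1
  exact mul_inv_eq_iff_eq_mul.mp (mul_inv_eq_one.mp this)

end CfsgLib.CosetEnum.U62Mult
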