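/-
The Schur multiplier of PSU(6, 2).
-/
import Cfsg.Agent.Lib.CosetEnum.U62Mult.Cover
import Cfsg.Agent.Lib.SUShort.Counts
import Cfsg.Agent.Lib.UnitarySimple
import Mathlib.Data.ZMod.Basic

set_option autoImplicit false
set_option maxRecDepth 1000000

universe u

namespace CfsgLib.CosetEnum.U62Mult

open Cfsg

attribute [local irreducible] Fi22Mult.gU Fi22Mult.dCoord

theorem orderOf_zU : orderOf zU = 6 := by
  refine (orderOf_eq_iff (by norm_num)).mpr ⟨Subtype.ext (by rw [Subgroup.coe_pow]; exact zc_six), fun m hm hm0 e => ?_⟩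
  have h := zU_val m
  rw [e] at h
  obtain ⟨h2, h3⟩ : _ ∧ _ := ⟨congrArg (Prod.fst ∘ Prod.snd) h, congrArg (Prod.snd ∘ Prod.snd) h⟩
  simp only [Function.comp_apply, OneMemClass.coe_one, Prod.fst_one, Prod.snd_one] at h2 h3
  have hW : (Fi22Mult.spiderW.map Fi22Mult.gU).prod ≠ 1 := fun e => Fi22Mult.wU_ne (by rw [e, one_pow])
  have ht : Fi23Class.tp ≠ 1 := fun e => by
    have h := Fi23Class.facts.2.1.1.1 Fi23Class.tp mem_conjugatesOf_self
    rw [e, orderOf_one] at h
    omega
  have d2 := orderOf_dvd_of_pow_eq_one h2.symm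
  have d3 := orderOf_dvd_of_pow_eq_one h3.symm
  rw [orderOf_eq_prime (p := 2) (by rw [pow_two]; exact Fi22Mult.tp_sq) ht] at d2
  haveI : Fact (Nat.Prime 3) := ⟨Nat.prime_three⟩
  rw [orderOf_eq_prime (p := 3) spider_three hW] at d3
  omega

theorem toH_ker_eq : toH.ker = Subgroup.zpowers zU := by
  refine le_antisymm (fun e he => ?_) (Subgroup.zpowers_le.mpr toH_zU)
  obtain ⟨n, rfl⟩ := toH_ker he
  exact pow_mem (Subgroup.mem_zpowers zU) n

theorem card_preU : Nat.card ↥preU = 6 * Nat.card ↥stabH := by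
  rw [← toH.ker.card_mul_index, Subgroup.index_ker, MonoidHom.range_eq_top.mpr toH_surj, Subgroup.card_top, toH_ker_eq,
    Nat.card_zpowers, orderOf_zU]

theorem gT_sq : gT * gT = 1 := Subtype.ext (cGen_sq 0)

/-- The homomorphism on the kernel given by three commuting elements. -/
theorem three_hom {M : Type*} [Group M] {a b c : M} (ha : a ^ 3 = 1) (hb : b ^ 2 = 1) (hc : c ^ 2 = 1)
    (hab : Commute a b) (hac : Commute a c) (hbc : Commute b c) :
    ∃ f : Multiplicative (ZMod 3 × ZMod 2 × ZMod 2) →* M, ∀ i j l : ℕ,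
      f (Multiplicative.ofAdd ((i : ZMod 3), (j : ZMod 2), (l : ZMod 2))) = a ^ i * b ^ j * c ^ l := by
  refine ⟨MonoidHom.mk' (fun x => a ^ (Multiplicative.toAdd x).1.val * b ^ (Multiplicative.toAdd x).2.1.val *
    c ^ (Multiplicative.toAdd x).2.2.val) fun x y => ?_, fun i j l => ?_⟩
  · simp only [toAdd_mul, Prod.fst_add, Prod.snd_add, ZMod.val_add, ← pow_eq_pow_mod _ ha, ← pow_eq_pow_mod _ hb,
      ← pow_eq_pow_mod _ hc, pow_add]
    set a1 := a ^ (Multiplicative.toAdd x).1.val
    set a2 := a ^ (Multiplicative.toAdd y).1.val with ha2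
    set b1 := b ^ (Multiplicative.toAdd x).2.1.val with hb1
    set b2 := b ^ (Multiplicative.toAdd y).2.1.val with hb2
    set c1 := c ^ (Multiplicative.toAdd x).2.2.val with hc1
    set c2 := c ^ (Multiplicative.toAdd y).2.2.val
    have e1 : Commute b1 a2 := (hab.symm.pow_left _).pow_right _
    have e2 : Commute c1 a2 := (hac.symm.pow_left _).pow_right _
    have e3 : Commute c1 b2 := (hbc.symm.pow_left _).pow_right _
    calc a1 * a2 * (b1 * b2) * (c1 * c2) = a1 * (a2 * b1) * (b2 * c1) * c2 := by simp only [mul_assoc]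
      _ = a1 * (b1 * a2) * (c1 * b2) * c2 := by rw [e1.eq, e3.eq]
      _ = a1 * b1 * (a2 * c1) * b2 * c2 := by simp only [mul_assoc]
      _ = a1 * b1 * (c1 * a2) * b2 * c2 := by rw [e2.eq]
      _ = a1 * b1 * c1 * (a2 * b2 * c2) := by simp only [mul_assoc]
  · simp only [MonoidHom.mk'_apply, toAdd_ofAdd, ZMod.val_natCast, ← pow_eq_pow_mod _ ha, ← pow_eq_pow_mod _ hb,
      ← pow_eq_pow_mod _ hc]

/-- **The multiplier of a quotient of the point stabiliser by its centre.** -/
theorem multiplier {G : Type u} [Group G] (p : ↥stabH →* G) (hsurj : Function.Surjective p)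
    (hker : ∀ h, p h = 1 ↔ h = 1 ∨ h = aT) (hG : commutator G = ⊤) (hH : commutator ↥stabH = ⊤)
    (hcard : Nat.card ↥stabH = 18393661440) :
    Cfsg.HasSchurMultiplier G (Multiplicative (ZMod 3 × ZMod 2 × ZMod 2)) := by
  classical
  haveI : Finite ↥preU := inferInstance
  have hp : p aT = 1 := (hker aT).mpr (Or.inr rfl)
  set π₀ : ↥preU →* G := p.comp toH
  have hcases : ∀ e : ↥preU, π₀ e = 1 → ∃ n l : ℕ, e = zU ^ n * gT ^ l := fun e he => by
    rcases (hker _).mp he with h | h
    · obtain ⟨n, rfl⟩ := toH_ker h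
      exact ⟨n, 0, by rw [pow_zero, mul_one]⟩
    · obtain ⟨n, hn⟩ := toH_ker (e := e * gT) (by rw [map_mul, h, toH_gT, aT_sq])
      exact ⟨n, 1, by rw [← hn, pow_one, mul_assoc, gT_sq, mul_one]⟩
  have hzc : ∀ e : ↥preU, Commute zU e := fun e => Subtype.ext (zc_comm e.1).eq
  have hgc : ∀ e : ↥preU, Commute gT e := fun e => (gT_central hH e).symm
  have hcen : π₀.ker ≤ Subgroup.center ↥preU := fun e he => by
    obtain ⟨n, l, rfl⟩ := hcases e he
    exact Subgroup.mem_center_iff.mpr fun g => (((hzc g).pow_left n).mul_left ((hgc g).pow_left l)).eq.symm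
  let up : ULift.{u} ↥preU ≃* ↥preU := MulEquiv.ulift
  set σ : ULift.{u} ↥preU →* G := π₀.comp up.toMonoidHom with hσ
  have hperf : commutator (ULift.{u} ↥preU) = ⊤ := by
    have h : (commutator (ULift.{u} ↥preU)).map up.toMonoidHom = ⊤ := by
      rw [commutator_def, Subgroup.map_commutator, Subgroup.map_top_of_surjective _ up.surjective, ← commutator_def,
        preU_perfect hH]
    refine Subgroup.map_injective (f := up.toMonoidHom) up.injective ?_
    rw [h, Subgroup.map_top_of_surjective _ up.surjective]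
  have hstem : IsStemExtension σ := by
    refine ⟨(hsurj.comp toH_surj).comp up.surjective, fun e he => ?_, by rw [hperf]; exact le_top⟩
    refine Subgroup.mem_center_iff.mpr fun g => up.injective ?_
    rw [map_mul, map_mul]
    exact Subgroup.mem_center_iff.mp (hcen (show up e ∈ π₀.ker from he)) (up g)
  have hGcard : 2 * Nat.card G = Nat.card ↥stabH := by
    have hk : p.ker = Subgroup.zpowers aT := by
      refine le_antisymm (fun h hh => ?_) (Subgroup.zpowers_le.mpr hp)
      rcases (hker h).mp hh with rfl | rfl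
      exacts [one_mem _, Subgroup.mem_zpowers _]
    rw [← p.ker.card_mul_index, Subgroup.index_ker, MonoidHom.range_eq_top.mpr hsurj, Subgroup.card_top, hk,
      Nat.card_zpowers, orderOf_eq_prime (p := 2) (by rw [pow_two]; exact aT_sq) aT_ne]
  have hU : Nat.card (ULift.{u} ↥preU) = 110361968640 := by
    rw [Nat.card_congr up.toEquiv, card_preU, hcard]
  have hkcard : Nat.card σ.ker = 12 := by
    have e := σ.ker.card_mul_index
    rw [Subgroup.index_ker, MonoidHom.range_eq_top.mpr hstem.1, Subgroup.card_top, hU] at e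
    rw [hcard] at hGcard
    have hG' : Nat.card G = 9196830720 := by omega
    rw [hG'] at e
    omega
  have h6 : zU ^ 6 = 1 := orderOf_zU ▸ pow_orderOf_eq_one zU
  obtain ⟨f, hf⟩ := three_hom (a := zU ^ 2) (b := zU ^ 3) (c := gT) (by rw [← pow_mul]; exact h6)
    (by rw [← pow_mul]; exact h6) (by rw [pow_two]; exact gT_sq) ((Commute.refl zU).pow_pow 2 3)
    ((hzc gT).pow_left 2) ((hzc gT).pow_left 3)
  have hfk : ∀ x, π₀ (f x) = 1 := fun x => by
    obtain ⟨⟨i, j, l⟩, rfl⟩ := Multiplicative.ofAdd.surjective x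
    rw [← ZMod.natCast_zmod_val i, ← ZMod.natCast_zmod_val j, ← ZMod.natCast_zmod_val l, hf]
    show p (toH _) = 1
    simp [map_mul, map_pow, toH_zU, toH_gT, hp]
  let ι : Multiplicative (ZMod 3 × ZMod 2 × ZMod 2) →* σ.ker :=
    (up.symm.toMonoidHom.comp f).codRestrict σ.ker fun x => by
      show π₀ (up (up.symm (f x))) = 1
      rw [MulEquiv.apply_symm_apply]; exact hfk x
  have hsι : Function.Surjective ι := by
    rintro ⟨e, he⟩
    obtain ⟨n, l, hn⟩ := hcases (up e) he
    refine ⟨Multiplicative.ofAdd (((2 * n : ℕ) : ZMod 3), ((n : ℕ) : ZMod 2), ((l : ℕ) : ZMod 2)), Subtype.ext ?_⟩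
    show up.symm (f _) = e
    rw [hf, MulEquiv.symm_apply_eq, hn, ← pow_mul, ← pow_mul, ← pow_add, pow_eq_pow_mod _ h6,
      show (2 * (2 * n) + 3 * n) % 6 = n % 6 by omega, ← pow_eq_pow_mod _ h6]
  have hbι : Function.Bijective ι := (Nat.bijective_iff_surjective_and_card _).mpr
    ⟨hsι, by rw [hkcard, Nat.card_eq_fintype_card]; rfl⟩
  refine ⟨⟨ULift.{u} ↥preU, inferInstance, inferInstance, σ, hstem, ⟨(MulEquiv.ofBijective ι hbι).symm⟩⟩, ?_⟩
  intro Γ _ _ π hπ
  obtain ⟨g, hg⟩ := factor_through p hsurj hp hG hstem hU hπ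
  exact ⟨g.comp ι, hg.comp hbι.2⟩

/-- **The Schur multiplier of PSU(6, 2).** -/
theorem psu_multiplier {F : Type u} [Field F] [Fintype F] (hF : Fintype.card F = 4) :
    Cfsg.HasSchurMultiplier (PSU 6 F 2) (Multiplicative (ZMod 3 × ZMod 2 × ZMod 2)) := by
  classical
  letI : Fintype (GaloisField 2 2) := Fintype.ofFinite _
  have hK : Fintype.card (GaloisField 2 2) = 2 ^ 2 := by
    rw [← Nat.card_eq_fintype_card]; exact GaloisField.card 2 2 (by norm_num)
  obtain ⟨hc2, ⟨e⟩, hns⟩ := Fi22Class.double_cover_field hK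
  obtain ⟨e'⟩ := CfsgLib.SUShort.psu_congr (FiniteField.ringEquivOfCardEq
    (show Fintype.card (GaloisField 2 2) = Fintype.card F by rw [hK, hF]; norm_num)) 6 2
  haveI : Finite presFi22.Grp := Cfsg.Agent.S1696.upper.1
  set Z := Subgroup.center ↥stabH with hZd
  have haZ : aT ∈ Z := Subgroup.mem_center_iff.mpr fun h => (aT_central h).eq
  have hZ : Z = Subgroup.zpowers aT := by
    refine (Subgroup.eq_of_le_of_card_ge (Subgroup.zpowers_le.mpr haZ) ?_).symm
    rw [Nat.card_zpowers, orderOf_eq_prime (p := 2) (by rw [pow_two]; exact aT_sq) aT_ne]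
    exact hc2.le
  let p : ↥stabH →* PSU 6 F 2 := (e.trans e').toMonoidHom.comp (QuotientGroup.mk' Z)
  have hsurj : Function.Surjective p := (e.trans e').surjective.comp (QuotientGroup.mk'_surjective _)
  have hker : ∀ h, p h = 1 ↔ h = 1 ∨ h = aT := fun h => by
    show (e.trans e') _ = 1 ↔ _
    rw [MulEquiv.map_eq_one_iff, QuotientGroup.mk'_apply, QuotientGroup.eq_one_iff, hZ]
    refine ⟨fun hh => ?_, ?_⟩
    · obtain ⟨k, rfl⟩ := Subgroup.mem_zpowers_iff.mp hh
      rcases Int.even_or_odd k with ⟨m, rfl⟩ | ⟨m, rfl⟩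
      · exact Or.inl (by rw [← two_mul, zpow_mul, zpow_two, aT_sq, one_zpow])
      · exact Or.inr (by rw [zpow_add_one, zpow_mul, zpow_two, aT_sq, one_zpow, one_mul])
    · rintro (rfl | rfl)
      exacts [one_mem _, Subgroup.mem_zpowers _]
  have hF2 : Fintype.card F = 2 ^ 2 := hF.trans (by norm_num)
  have hG : commutator (PSU 6 F 2) = ⊤ := by
    rw [commutator_def, ← Subgroup.map_top_of_surjective (QuotientGroup.mk' (Subgroup.center (SU 6 F 2)))
      (QuotientGroup.mk'_surjective _), ← Subgroup.map_commutator, ← commutator_def,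
      CfsgLib.UnitarySimple.perfect hF2 (by norm_num) (by omega)]
  have hH : commutator ↥stabH = ⊤ := by
    set D := commutator ↥stabH
    have hmap : D.map p = ⊤ := by
      show (commutator ↥stabH).map p = ⊤
      rw [commutator_def, Subgroup.map_commutator, Subgroup.map_top_of_surjective p hsurj, ← commutator_def, hG]
    have hpk : p.ker ≤ D := by
      by_contra hn
      have haD : aT ∉ D := fun h => hn fun x hx => by
        rcases (hker x).mp hx with rfl | rfl
        exacts [one_mem _, h]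
      refine hns D (Subgroup.isComplement'_of_disjoint_and_mul_eq_univ ?_ ?_)
      · rw [Subgroup.disjoint_def]
        intro x hx hxD
        rw [hZ] at hx
        have hx' : p x = 1 := by
          obtain ⟨k, rfl⟩ := Subgroup.mem_zpowers_iff.mp hx
          rw [map_zpow, (hker aT).mpr (Or.inr rfl), one_zpow]
        rcases (hker x).mp hx' with rfl | rfl
        exacts [rfl, absurd hxD haD]
      · refine Set.eq_univ_of_forall fun x => ?_
        obtain ⟨d, hd, hdx⟩ := (hmap.symm ▸ Subgroup.mem_top (p x) : p x ∈ D.map p)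
        refine Set.mem_mul.mpr ⟨x * d⁻¹, ?_, d, hd, by rw [inv_mul_cancel_right]⟩
        rcases (hker (x * d⁻¹)).mp (by rw [map_mul, map_inv, hdx, mul_inv_cancel]) with q | q <;> rw [q]
        exacts [one_mem _, haZ]
    rw [← Subgroup.comap_map_eq_self hpk, hmap, Subgroup.comap_top]
  refine multiplier p hsurj hker hG hH ?_
  obtain ⟨ee, -⟩ := Fi3510.cert.exists_equiv Fi3510.hlt Fi22Class.hid Fi3510.hhw
  have h : 3510 * Nat.card ↥stabH = 64561751654400 := by
    rw [← (show Nat.card presFi22.Grp = 64561751654400 from Cfsg.Agent.S1696.result.2),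
      ← Subgroup.card_mul_index stabH, index_eq_of_equiv ee, mul_comm]
    rfl
  omega

end CfsgLib.CosetEnum.U62Mult
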